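import Cfsg.Agent.StrongEmb.OneLocalClass
import Cfsg.Agent.RankOne.Classify.GlueBender

/-!
# The simple groups with one class of maximal 2-local subgroups

They are the groups of Bender's list (the shape of S3245), given stage 1 and the rank-one pieces.
-/

set_option autoImplicit false

namespace CfsgLib.StrongEmb.OneLocalClass

open Cfsg CfsgLib.RankOneClassify

universe u

theorem list_of_oneClass (hP : AllPPlus.{u}) (hp : Pieces.{u, u}) {G : Type u} [Group G] [Finite G]
    [IsSimpleGroup G] (hG : ¬ IsMulCommutative G) (h : OneClass G) :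
    (∃ (F : Type) (_ : Field F) (_ : Fintype F) (n : ℕ), 2 ≤ n ∧ Fintype.card F = 2 ^ n ∧
        Nonempty (G ≃* Matrix.ProjectiveSpecialLinearGroup (Fin 2) F)) ∨
      Cfsg.Lie.IsoSuzuki G ∨
      (∃ (F : Type) (_ : Field F) (_ : Fintype F) (n : ℕ), 2 ≤ n ∧
        Fintype.card F = (2 ^ n) ^ 2 ∧ Nonempty (G ≃* Cfsg.PSU 3 F (2 ^ n))) := by
  obtain ⟨H, hH⟩ := exists_stronglyEmbedded h hG
  obtain ⟨h2, hcore⟩ := rankTwo_of_simple hH
  obtain ⟨Q, hQ, -, -⟩ := hP G H hH h2 hcore
  exact simple_list hp hH hQ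

end CfsgLib.StrongEmb.OneLocalClass
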