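import Cfsg.Agent.StrongEmb.Partition83
import Cfsg.Agent.StrongEmb.GlueResidual
import Mathlib.GroupTheory.Nilpotent

/-!
Campaign 53, piece F, non-commuting involutions: normal subgroups of a pair stabiliser.

With non-commuting involutions in `H`, a normal abelian subgroup of a pair stabiliser `D` has all
prime divisors in `k`, each of its non-trivial elements fixes exactly the pair, a swapper
normalising it inverts it and the elements inverted by that swapper centralise it.
A normal nilpotent subgroup of `D` has all prime divisors in `k`.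
-/

set_option autoImplicit false
set_option linter.style.haveILetI false

universe u

namespace CfsgLib.StrongEmb

open Cfsg CfsgLib.StronglyEmbedded

namespace NormalAbelian

variable {G : Type u} [Group G] [Finite G] {H : Subgroup G}

/-- The minimal non-commuting situation of piece F. -/
structure Noncomm (H : Subgroup G) (a : G ⧸ H) : Prop where
  stronglyEmbedded : IsStronglyEmbedded H
  rankTwo : RankTwo G
  core : H.normalCore = ⊥
  below : PPlusBelow.{u} (Nat.card G)
  transitive : TransitiveOff H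
  noBad : ¬ BadElement H
  ne : a ≠ ((1 : G) : G ⧸ H)
  notCommute : ¬ InvolutionsCommute H

variable {a : G ⧸ H} (hs : Noncomm H a)

include hs

theorem Noncomm.twoPoint : ∀ p : ℕ, p.Prime → p ∣ involCount H →
    ¬ p ∣ H.index - 1 ∧ ∀ (x y : G ⧸ H) (P : Subgroup G), x ≠ y →
      IsSylowIn p (pairStab H x y) P → fixSet H P = {x, y} :=
  (noOddTransitive H hs.stronglyEmbedded hs.rankTwo hs.core
    (not_oddPairAt hs.stronglyEmbedded hs.rankTwo hs.core hs.below)).2

/-- A subgroup of prime power order prime to `k` normalised by the pair stabiliser is trivial. -/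
theorem eq_bot_of_not_dvd {r : ℕ} (hr : r.Prime) (hrk : ¬ r ∣ involCount H) {R : Subgroup G}
    (hR : IsPGroup r R) (hRD : R ≤ pairStab H ((1 : G) : G ⧸ H) a)
    (hnorm : ∀ g ∈ pairStab H ((1 : G) : G ⧸ H) a, ∀ y ∈ R, g * y * g⁻¹ ∈ R) : R = ⊥ := by
  haveI := Fact.mk hr
  have hH := hs.stronglyEmbedded
  set d : G ⧸ H := ((1 : G) : G ⧸ H) with hd
  by_contra hne
  apply hs.notCommute
  refine lineCommute H hH hs.rankTwo hs.core hs.below
    ⟨Subgroup.centralizer (R : Set G), fun htop => hne ?_, fun hle => ?_, fun t ht htH => ?_⟩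
  · rw [eq_bot_iff, ← hs.core]
    intro x hx b
    refine (smul_coset_eq_iff b⁻¹ x).mp ?_ |> fun h => by simpa using h
    have hbx : b⁻¹ * x = x * b⁻¹ :=
      (Subgroup.mem_centralizer_iff.mp (htop.ge (Subgroup.mem_top b⁻¹)) x hx).symm
    have hd1 : ((b⁻¹ : G) : G ⧸ H) = b⁻¹ • d := by
      rw [hd, MulAction.Quotient.smul_coe, smul_eq_mul, mul_one]
    rw [hd1, smul_smul, ← hbx, mul_smul, (hRD hx).1]
  · obtain ⟨w, -, hwR, hwa⟩ := SwappedFix.swapped_of_not_dvd hH hrk hR d (fun q hq => (hRD hq).1)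
      a (fun q hq => (hRD hq).2) hs.ne.symm
    exact hs.ne (hwa.symm.trans ((smul_eq_one_coset_iff w).mpr (hle hwR)))
  · let T := {s : G // orderOf s = 2 ∧ s ∈ H}
    letI : MulAction R T :=
      { smul := fun q s => ⟨(q : G) * (s : G) * (q : G)⁻¹, (orderOf_conj _ _).trans s.2.1,
          H.mul_mem (H.mul_mem ((smul_eq_one_coset_iff _).mp (hRD q.2).1) s.2.2)
            (H.inv_mem ((smul_eq_one_coset_iff _).mp (hRD q.2).1))⟩
        one_smul := fun s => Subtype.ext
          (show ((1 : R) : G) * (s : G) * ((1 : R) : G)⁻¹ = s by simp)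
        mul_smul := fun q q' s => Subtype.ext
          (show ((q * q' : R) : G) * (s : G) * ((q * q' : R) : G)⁻¹ =
            (q : G) * ((q' : G) * (s : G) * (q' : G)⁻¹) * (q : G)⁻¹ by
            rw [Subgroup.coe_mul]; group) }
    obtain ⟨⟨s, hs2, hsH⟩, hfix⟩ := hR.nonempty_fixed_point_of_prime_not_dvd_card T hrk
    obtain ⟨g, hg, rfl⟩ := exists_apex_conj hH hs.ne hs2 ((smul_eq_one_coset_iff s).mpr hsH) ht
      ((smul_eq_one_coset_iff t).mpr htH)
    refine Subgroup.mem_centralizer_iff.mpr fun q hq => ?_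
    have hq' : g⁻¹ * q * g ∈ R := by
      simpa using hnorm g⁻¹ (inv_mem hg) q hq
    have h1 : (g⁻¹ * q * g) * s * (g⁻¹ * q * g)⁻¹ = s :=
      congrArg Subtype.val (hfix ⟨g⁻¹ * q * g, hq'⟩)
    rw [mul_inv_eq_iff_eq_mul] at h1
    calc q * (g * s * g⁻¹) = g * ((g⁻¹ * q * g) * s) * g⁻¹ := by group
      _ = g * (s * (g⁻¹ * q * g)) * g⁻¹ := by rw [h1]
      _ = g * s * g⁻¹ * q := by group

/-- A normal nilpotent subgroup of the pair stabiliser has all its prime divisors in `k`. -/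
theorem primes_of_nilpotent {N : Subgroup G} (hND : N ≤ pairStab H ((1 : G) : G ⧸ H) a)
    [Group.IsNilpotent N]
    (hnorm : ∀ g ∈ pairStab H ((1 : G) : G ⧸ H) a, ∀ y ∈ N, g * y * g⁻¹ ∈ N) :
    ∀ p : ℕ, p.Prime → p ∣ Nat.card N → p ∣ involCount H := by
  intro p hp hpN
  haveI := Fact.mk hp
  by_contra hpk
  let P : Sylow p N := default
  have hn : (P : Subgroup N).Normal :=
    Sylow.normal_of_normalizerCondition Group.normalizerCondition_of_isNilpotent P
  have hch : (P : Subgroup N).Characteristic := Sylow.characteristic_of_normal P hn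
  refine P.ne_bot_of_dvd_card hpN ((Subgroup.map_eq_bot_iff_of_injective _
    N.subtype_injective).mp (eq_bot_of_not_dvd hs hp hpk (P.2.map N.subtype)
      ((Subgroup.map_subtype_le _).trans hND) ?_))
  rintro g hg _ ⟨y, hy, rfl⟩
  have hgN : g ∈ Subgroup.normalizer (N : Set G) :=
    NoOdd.mem_normalizer_of_invariant (hnorm g hg)
  let e : N ≃* N :=
    { toFun := fun z => ⟨g * z * g⁻¹, hnorm g hg z z.2⟩
      invFun := fun z => ⟨g⁻¹ * z * g, by simpa using hnorm g⁻¹ (inv_mem hg) z z.2⟩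
      left_inv := fun z => Subtype.ext (by group)
      right_inv := fun z => Subtype.ext (by group)
      map_mul' := fun z z' => Subtype.ext (by push_cast; group) }
  exact ⟨e y, by rw [← hch.fixed e] at hy; exact hy, rfl⟩

/-- A normal abelian subgroup of the pair stabiliser satisfies `Partition.PiNormal`. -/
theorem piNormal {Y : Subgroup G} (hYD : Y ≤ pairStab H ((1 : G) : G ⧸ H) a)
    (hcomm : ∀ x ∈ Y, ∀ y ∈ Y, Commute x y)
    (hnorm : ∀ g ∈ pairStab H ((1 : G) : G ⧸ H) a, ∀ y ∈ Y, g * y * g⁻¹ ∈ Y) :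
    Partition.PiNormal H a Y := by
  refine ⟨hYD, hcomm, hnorm, ?_⟩
  letI : CommGroup Y := { mul_comm := fun x y => Subtype.ext (hcomm x x.2 y y.2).eq }
  exact primes_of_nilpotent hs hYD hnorm

variable {Y : Subgroup G} (hY : Partition.PiNormal H a Y)

include hY

/-- No involution of `H` centralises a non-trivial element of `Y`. -/
theorem eq_one_of_commute {u y : G} (hu : orderOf u = 2) (huH : u ∈ H) (hy : y ∈ Y)
    (hc : Commute y u) : y = 1 := by
  have h := Partition.centIn_eq_bot Cfsg.Agent.S0205.result hs.stronglyEmbedded hs.core hs.below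
    hs.noBad (fun p hp hpk => (hs.twoPoint p hp hpk).2) hs.ne hY
    (fun p hp hpk => (hs.twoPoint p hp hpk).1) hs.transitive hs.notCommute hu huH
  exact Subgroup.mem_bot.mp (h ▸ Partition.mem_centIn.mpr ⟨hy, hc⟩)

/-- A non-trivial element of `Y` fixes exactly the pair. -/
theorem fixed_eq {y : G} (hy : y ∈ Y) (hy1 : y ≠ 1) {b : G ⧸ H} (hb : y • b = b) :
    b = ((1 : G) : G ⧸ H) ∨ b = a := by
  set d : G ⧸ H := ((1 : G) : G ⧸ H) with hd
  by_contra hne
  push Not at hne
  obtain ⟨hbd, hba⟩ := hne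
  have hH := hs.stronglyEmbedded
  obtain ⟨p, hp, hpy⟩ := Nat.exists_prime_and_dvd
    (fun h => hy1 (orderOf_eq_one_iff.mp h) : orderOf y ≠ 1)
  haveI := Fact.mk hp
  set z := y ^ (orderOf y / p) with hz
  have hzY : z ∈ Y := Y.pow_mem hy _
  have hzo : orderOf z = p := by
    rw [hz, orderOf_pow_orderOf_div (orderOf_pos y).ne' hpy]
  have hpY : p ∣ Nat.card Y :=
    hpy.trans (Subgroup.orderOf_coe (⟨y, hy⟩ : Y) ▸ orderOf_dvd_natCard _)
  have hp2 : p ≠ 2 := fun h => by
    have := (odd_pairStab hH hs.ne.symm).of_dvd_nat (hpY.trans (Subgroup.card_dvd_of_le hY.le))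
    rw [h] at this
    exact Nat.not_odd_iff_even.mpr even_two this
  have hQp : IsPGroup p (Subgroup.zpowers z) :=
    IsPGroup.of_card (n := 1) (by rw [Nat.card_zpowers, hzo, pow_one])
  have hfixQ : ∀ e : G ⧸ H, y • e = e → e ∈ fixSet H (Subgroup.zpowers z) := fun e he q hq =>
    MulAction.mem_stabilizer_iff.mp (Subgroup.zpowers_le.mpr
      ((MulAction.stabilizer G e).pow_mem (MulAction.mem_stabilizer_iff.mpr he) _) hq)
  have hdF := hfixQ d (mem_pairStab.mp (hY.le hy)).1
  have h3 : 3 ≤ (fixSet H (Subgroup.zpowers z)).ncard := by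
    have hsub : ({d, a, b} : Set (G ⧸ H)) ⊆ fixSet H (Subgroup.zpowers z) := by
      rintro e (rfl | rfl | rfl)
      · exact hdF
      · exact hfixQ _ (mem_pairStab.mp (hY.le hy)).2
      · exact hfixQ _ hb
    refine le_of_eq_of_le ?_ (Set.ncard_le_ncard hsub (Set.toFinite _))
    rw [Set.ncard_insert_of_notMem (by
      rintro (h | h)
      · exact hs.ne h.symm
      · exact hbd h.symm), Set.ncard_pair hba.symm]
  obtain ⟨⟨v, w, hv, -, -, -, hvQ, -⟩, hsw⟩ := SwappedFix.four_and_swapped hH hp2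
    (hs.twoPoint p hp (hY.primes p hp hpY)).2 Cfsg.Agent.S0205.result hs.noBad _ hQp h3
  obtain ⟨c, hc⟩ := exists_centre hH hv
  obtain ⟨u, hu, huH, huQ⟩ : ∃ u, orderOf u = 2 ∧ u ∈ H ∧
      u ∈ Subgroup.centralizer (Subgroup.zpowers z : Set G) := by
    rcases eq_or_ne c d with rfl | hcd
    · exact ⟨v, hv, (smul_eq_one_coset_iff v).mp hc, hvQ⟩
    · obtain ⟨s, -, hsC, hsc⟩ := hsw c
        (SwappedFix.centre_mem_fixSet_of_centralizer hH hv hvQ hc) d hdF hcd
      exact ⟨s * v * s⁻¹, by rw [StronglyEmbedded.orderOf_conj, hv],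
        (smul_eq_one_coset_iff _).mp (show (s * v * s⁻¹) • d = d by
          rw [← hsc, mul_smul, mul_smul, inv_smul_smul, hc]),
        mul_mem (mul_mem hsC hvQ) (inv_mem hsC)⟩
  have := eq_one_of_commute hs hY hu huH hzY
    (Subgroup.mem_centralizer_iff.mp huQ z (Subgroup.mem_zpowers z))
  rw [this, orderOf_one] at hzo
  exact hp.one_lt.ne hzo

/-- A swapper normalising `Y` inverts it. -/
theorem inverted {v : G} (hv : orderOf v = 2) (hva : v • ((1 : G) : G ⧸ H) = a)
    (hvY : InvariantUnder v Y) {y : G} (hy : y ∈ Y) : v * y * v⁻¹ = y⁻¹ := by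
  set d : G ⧸ H := ((1 : G) : G ⧸ H) with hd
  have hy' : v * y * v⁻¹ ∈ Y := hvY y hy
  have hz : Commute v (y * (v * y * v⁻¹)) := by
    refine commute_iff_conj_eq.mpr ?_
    rw [show v * (y * (v * y * v⁻¹)) * v⁻¹ = v * y * v⁻¹ * ((v * v) * y * (v⁻¹ * v⁻¹)) by group,
      mul_self_eq_one hv, inv_eq_self hv, mul_self_eq_one hv, one_mul, mul_one]
    exact hY.comm _ (by rw [inv_eq_self hv] at hy'; exact hy') y hy
  obtain ⟨c, hc⟩ := exists_centre hs.stronglyEmbedded hv
  have hzc := smul_eq_of_commute hs.stronglyEmbedded hv hc hz.symm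
  have hz1 : y * (v * y * v⁻¹) = 1 := by
    by_contra hne
    rcases fixed_eq hs hY (Y.mul_mem hy hy') hne hzc with rfl | rfl
    · exact hs.ne (hva.symm.trans hc)
    · exact hs.ne (hc.symm.trans (smul_eq_of_smul_eq hv hva))
  exact (inv_eq_of_mul_eq_one_right hz1).symm

/-- An element of the pair stabiliser inverted by a swapper normalising `Y` centralises `Y`. -/
theorem commute_inverted {v : G} (hv : orderOf v = 2) (hva : v • ((1 : G) : G ⧸ H) = a)
    (hvY : InvariantUnder v Y) {j : G} (hj : j ∈ pairStab H ((1 : G) : G ⧸ H) a)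
    (hvj : v * j * v⁻¹ = j⁻¹) {y : G} (hy : y ∈ Y) : Commute j y := by
  have hji : j⁻¹ * y * j ∈ Y := by simpa using hY.norm j⁻¹ (inv_mem hj) y hy
  have h1 := inverted hs hY hv hva hvY hji
  have h2 : v * (j⁻¹ * y * j) * v⁻¹ = j * y⁻¹ * j⁻¹ := by
    rw [show v * (j⁻¹ * y * j) * v⁻¹ = (v * j * v⁻¹)⁻¹ * (v * y * v⁻¹) * (v * j * v⁻¹) by group,
      hvj, inverted hs hY hv hva hvY hy, inv_inv]
  rw [h2, show (j⁻¹ * y * j)⁻¹ = j⁻¹ * y⁻¹ * j by group] at h1
  -- `j²` centralises `y` and has odd order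
  have h3 : Commute (j ^ 2) y⁻¹ := by
    show j ^ 2 * y⁻¹ = y⁻¹ * j ^ 2
    calc j ^ 2 * y⁻¹ = j * (j * y⁻¹ * j⁻¹) * j := by rw [pow_two]; group
      _ = j * (j⁻¹ * y⁻¹ * j) * j := by rw [h1]
      _ = y⁻¹ * j ^ 2 := by rw [pow_two]; group
  obtain ⟨m, hm⟩ : Odd (orderOf j) :=
    (odd_pairStab hs.stronglyEmbedded hs.ne.symm).of_dvd_nat
      (Subgroup.orderOf_coe (⟨j, hj⟩ : pairStab H _ a) ▸ orderOf_dvd_natCard _)
  have h4 := h3.inv_right.pow_left (m + 1)
  rwa [inv_inv, ← pow_mul, show 2 * (m + 1) = orderOf j + 1 by omega, pow_succ, pow_orderOf_eq_one,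
    one_mul] at h4

end NormalAbelian

end CfsgLib.StrongEmb
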