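import Cfsg.Agent.Eq.Def_CaseTheorems
import Cfsg.Agent.Eq.Def_Involutions
import Cfsg.Agent.OddCons.Basic
import Cfsg.Agent.S0205

/-!
# One class of maximal 2-local subgroups

In a non-abelian simple group whose maximal 2-local subgroups are conjugate every Sylow 2-subgroup
lies in just one of them, and a maximal intersection of Sylow 2-subgroups of two of them would
have its normalizer in both: they are strongly embedded.
-/

set_option autoImplicit false
set_option linter.style.haveILetI false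

namespace CfsgLib.StrongEmb.OneLocalClass

open Cfsg

universe u

variable {G : Type u} [Group G] [Finite G]

theorem exists_maximalTwoLocal {T : Subgroup G} (hT : IsPGroup 2 T) (hT1 : T ≠ ⊥) :
    ∃ M : Subgroup G, IsMaximalTwoLocal M ∧ Subgroup.normalizer (T : Set G) ≤ M := by
  obtain ⟨M, hM, hmax⟩ := Set.Finite.exists_maximalFor (fun K : Subgroup G => K)
    {K | IsTwoLocal K ∧ Subgroup.normalizer (T : Set G) ≤ K} (Set.toFinite _)
    ⟨_, ⟨T, hT, hT1, rfl⟩, le_rfl⟩
  exact ⟨M, ⟨hM.1, fun N hN hle => le_antisymm (hmax ⟨hN, hM.2.trans hle⟩ hle) hle⟩, hM.2⟩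

/-- The hypothesis: the maximal 2-local subgroups are conjugate. -/
def OneClass (G : Type*) [Group G] : Prop :=
  ∀ M M' : Subgroup G, IsMaximalTwoLocal M → IsMaximalTwoLocal M' →
    ∃ g : G, M' = M.map (MulAut.conj g).toMonoidHom

variable (h : OneClass G) (S : Sylow 2 G) (hS : (S : Subgroup G) ≠ ⊥)

include h hS in
theorem exists_sylow_le {M : Subgroup G} (hM : IsMaximalTwoLocal M) :
    ∃ P : Sylow 2 G, (P : Subgroup G) ≤ M := by
  obtain ⟨M₀, hM₀, hle⟩ := exists_maximalTwoLocal S.isPGroup' hS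
  obtain ⟨g, rfl⟩ := h M₀ M hM₀ hM
  refine ⟨g • S, ?_⟩
  rw [Sylow.coe_subgroup_smul]
  rintro _ ⟨k, hk, rfl⟩
  exact ⟨k, hle (Subgroup.le_normalizer hk), rfl⟩

include h in
/-- A Sylow subgroup lies in one maximal 2-local subgroup, with its normalizer. -/
theorem eq_of_sylow_le (P : Sylow 2 G) (hP : (P : Subgroup G) ≠ ⊥) {M₀ M : Subgroup G}
    (hM₀ : IsMaximalTwoLocal M₀) (hN : Subgroup.normalizer (P : Set G) ≤ M₀)
    (hM : IsMaximalTwoLocal M) (hle : (P : Subgroup G) ≤ M) : M = M₀ := by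
  haveI : Fact (Nat.Prime 2) := ⟨Nat.prime_two⟩
  obtain ⟨g, rfl⟩ := h M₀ M hM₀ hM
  set M := M₀.map (MulAut.conj g).toMonoidHom with hMdef
  have hle' : ((g • P : Sylow 2 G) : Subgroup G) ≤ M := by
    rw [Sylow.coe_subgroup_smul]
    rintro _ ⟨k, hk, rfl⟩
    exact ⟨k, hN (Subgroup.le_normalizer hk), rfl⟩
  obtain ⟨m, hm⟩ := MulAction.exists_smul_eq M ((g • P).subtype hle') (P.subtype hle)
  have hmP : ((m : G) * g) • P = P := by
    rw [mul_smul]
    exact Sylow.subtype_injective (by rwa [Sylow.smul_subtype] at hm)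
  have hmg : (m : G) * g ∈ M₀ := hN (Sylow.smul_eq_iff_mem_normalizer.1 hmP)
  obtain ⟨k, hk, hkm⟩ := m.2
  have hkm' : g * k * g⁻¹ = (m : G) := hkm
  have hg : g ∈ M₀ := by
    rw [← hkm', inv_mul_cancel_right] at hmg
    simpa using M₀.mul_mem hmg (M₀.inv_mem hk)
  ext v
  constructor
  · rintro ⟨u, hu, rfl⟩
    exact M₀.mul_mem (M₀.mul_mem hg hu) (M₀.inv_mem hg)
  · intro hv
    refine ⟨g⁻¹ * v * g, M₀.mul_mem (M₀.mul_mem (M₀.inv_mem hg) hv) hg, ?_⟩
    simp [mul_assoc]

include h in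
theorem eq_of_sylow_le' (P : Sylow 2 G) (hP : (P : Subgroup G) ≠ ⊥) {M M' : Subgroup G}
    (hM : IsMaximalTwoLocal M) (hM' : IsMaximalTwoLocal M') (hle : (P : Subgroup G) ≤ M)
    (hle' : (P : Subgroup G) ≤ M') : M = M' := by
  obtain ⟨M₀, hM₀, hN⟩ := exists_maximalTwoLocal P.isPGroup' hP
  rw [eq_of_sylow_le h P hP hM₀ hN hM hle, eq_of_sylow_le h P hP hM₀ hN hM' hle']

include h hS in
/-- Two maximal 2-local subgroups meet in a subgroup of odd order. -/
theorem odd_card_inf {M M' : Subgroup G} (hM : IsMaximalTwoLocal M) (hM' : IsMaximalTwoLocal M')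
    (hne : M ≠ M') : Odd (Nat.card ↥(M ⊓ M')) := by
  classical
  haveI : Fact (Nat.Prime 2) := ⟨Nat.prime_two⟩
  rw [← Nat.not_even_iff_odd]
  intro hev
  have hne0 : {R : Subgroup G | IsPGroup 2 R ∧ R ≠ ⊥ ∧ ∃ A B : Subgroup G,
      IsMaximalTwoLocal A ∧ IsMaximalTwoLocal B ∧ A ≠ B ∧ R ≤ A ⊓ B}.Nonempty := by
    obtain ⟨v, hv⟩ := exists_prime_orderOf_dvd_card' (G := ↥(M ⊓ M')) 2 hev.two_dvd
    have hv' : orderOf (v : G) = 2 := by rwa [Subgroup.orderOf_coe]
    refine ⟨Subgroup.zpowers (v : G), IsPGroup.of_card (n := 1) (by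
      rw [Nat.card_zpowers, hv', pow_one]), fun e => ?_, M, M', hM, hM', hne,
      Subgroup.zpowers_le.2 v.2⟩
    rw [Subgroup.zpowers_eq_bot] at e
    rw [e, orderOf_one] at hv'
    omega
  obtain ⟨R, ⟨hR, hR1, A, B, hA, hB, hAB, hle⟩, hmax⟩ :=
    Set.Finite.exists_maximalFor (fun R : Subgroup G => Nat.card R) _ (Set.toFinite _) hne0
  obtain ⟨C, hC, hNC⟩ := exists_maximalTwoLocal hR hR1
  -- every maximal 2-local subgroup holding `R` holds a larger 2-subgroup normalizing `R`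
  have key : ∀ (X Y : Subgroup G), IsMaximalTwoLocal X → IsMaximalTwoLocal Y → X ≠ Y →
      R ≤ X ⊓ Y → C = X := by
    intro X Y hX hY hXY hRle
    obtain ⟨P, hP⟩ := exists_sylow_le h S hS hX
    have hRX : IsPGroup 2 (R.subgroupOf X) := hR.comap_subtype
    obtain ⟨Q, hQ⟩ := hRX.exists_le_sylow
    obtain ⟨m, hm⟩ := MulAction.exists_smul_eq X (P.subtype hP) Q
    have hmP : ((m : G) • P : Sylow 2 G).1 ≤ X := by
      rw [Sylow.coe_subgroup_smul]
      rintro _ ⟨k, hk, rfl⟩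
      exact X.mul_mem (X.mul_mem m.2 (hP hk)) (X.inv_mem m.2)
    set P' := (m : G) • P with hP'
    have hRP : R ≤ (P' : Subgroup G) := by
      intro r hr
      have hrX : r ∈ X := (hRle hr).1
      have h1 : (⟨r, hrX⟩ : X) ∈ (Q : Subgroup X) := hQ hr
      rw [← hm, Sylow.smul_subtype] at h1
      exact h1
    have hlt : R < (P' : Subgroup G) := lt_of_le_of_ne hRP fun e =>
      hXY (eq_of_sylow_le' h P' (e ▸ hR1) hX hY hmP (e ▸ hRle.trans inf_le_right))
    obtain ⟨w, hwP, hwR, hwN⟩ : ∃ w ∈ (P' : Subgroup G), w ∉ R ∧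
        w ∈ Subgroup.normalizer (R : Set G) := by
      haveI := P'.isPGroup'.isNilpotent
      have hlt' : R.subgroupOf (P' : Subgroup G) < ⊤ := lt_top_iff_ne_top.2 fun e =>
        hlt.ne (le_antisymm hRP (Subgroup.subgroupOf_eq_top.1 e))
      obtain ⟨w, hw, hw'⟩ := SetLike.exists_of_lt
        (Group.normalizerCondition_of_isNilpotent (R.subgroupOf (P' : Subgroup G)) hlt')
      refine ⟨w, w.2, hw', Subgroup.mem_normalizer_iff.2 fun r => ⟨fun hr => ?_, fun hr => ?_⟩⟩
      · exact (Subgroup.mem_normalizer_iff.1 hw ⟨r, hRP hr⟩).1 hr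
      · have hrP : r ∈ (P' : Subgroup G) := by
          have := (P' : Subgroup G).mul_mem ((P' : Subgroup G).mul_mem
            ((P' : Subgroup G).inv_mem w.2) (hRP hr)) w.2
          simpa [mul_assoc] using this
        exact (Subgroup.mem_normalizer_iff.1 hw ⟨r, hrP⟩).2 hr
    by_contra hCX
    have hsup : R ⊔ Subgroup.zpowers w ≤ (P' : Subgroup G) :=
      sup_le hRP (Subgroup.zpowers_le.2 hwP)
    have hbig : IsPGroup 2 ↥(R ⊔ Subgroup.zpowers w) := P'.isPGroup'.to_le hsup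
    have hlt2 : R < R ⊔ Subgroup.zpowers w := lt_of_le_of_ne le_sup_left fun e =>
      hwR (e ▸ Subgroup.mem_sup_right (Subgroup.mem_zpowers w))
    have hcard : Nat.card R < Nat.card ↥(R ⊔ Subgroup.zpowers w) :=
      lt_of_le_of_ne (Subgroup.card_le_of_le hlt2.le) fun e =>
        hlt2.ne (Subgroup.eq_of_le_of_card_ge hlt2.le e.ge)
    have hle' := hmax (j := R ⊔ Subgroup.zpowers w) ⟨hbig,
      fun e => hR1 (le_bot_iff.1 (e ▸ le_sup_left)), X, C, hX, hC, Ne.symm hCX,
      le_inf (hsup.trans hmP) (sup_le (Subgroup.le_normalizer.trans hNC)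
        (Subgroup.zpowers_le.2 (hNC hwN)))⟩ hcard.le
    simp only at hle'
    omega
  exact hAB ((key A B hA hB hAB hle).symm.trans
    (key B A hB hA hAB.symm (inf_comm A B ▸ hle)))

include h in
/-- **A maximal 2-local subgroup is strongly embedded.** -/
theorem exists_stronglyEmbedded [IsSimpleGroup G] (hG : ¬ IsMulCommutative G) :
    ∃ H : Subgroup G, IsStronglyEmbedded H := by
  haveI : Fact (Nat.Prime 2) := ⟨Nat.prime_two⟩
  have hev : Even (Nat.card G) :=
    CfsgLib.OddCons.Basic.even_card_of_simple (fun hK => Cfsg.Agent.S0205.result hK) hG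
  obtain ⟨S⟩ : Nonempty (Sylow 2 G) := inferInstance
  have hS : (S : Subgroup G) ≠ ⊥ := fun e => by
    have h1 := S.card_eq_multiplicity
    rw [e, Subgroup.card_bot] at h1
    have h2 : (Nat.card G).factorization 2 ≠ 0 :=
      (Nat.prime_two.factorization_pos_of_dvd Nat.card_pos.ne' hev.two_dvd).ne'
    exact absurd h1.symm (Nat.one_lt_pow h2 one_lt_two).ne'
  obtain ⟨M, hM, hN⟩ := exists_maximalTwoLocal S.isPGroup' hS
  have hSM : (S : Subgroup G) ≤ M := Subgroup.le_normalizer.trans hN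
  refine ⟨M, fun e => ?_, ?_, fun g hg => ?_⟩
  · obtain ⟨⟨T, hT, hT1, hTM⟩, -⟩ := hM
    rw [e] at hTM
    haveI : T.Normal := Subgroup.normalizer_eq_top_iff.1 hTM.symm
    rcases (inferInstance : T.Normal).eq_bot_or_eq_top with h1 | h1
    · exact hT1 h1
    · apply hG
      subst h1
      have hp : IsPGroup 2 G := hT.of_equiv Subgroup.topEquiv
      haveI := hp.isNilpotent
      exact ⟨⟨IsSimpleGroup.comm_iff_isSolvable.2 inferInstance⟩⟩
  · refine Nat.even_iff.2 (Nat.dvd_iff_mod_eq_zero.1 (dvd_trans ?_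
      (Subgroup.card_dvd_of_le hSM)))
    exact S.dvd_card_of_dvd_card hev.two_dvd
  · refine odd_card_inf h S hS hM ⟨?_, fun K hK hle => ?_⟩ fun e => hg ?_
    · obtain ⟨T, hT, hT1, hTM⟩ := hM.1
      refine ⟨T.map (MulAut.conj g).toMonoidHom, hT.map _, fun e => hT1 ?_, ?_⟩
      · exact (Subgroup.map_eq_bot_iff_of_injective _ (MulAut.conj g).injective).1 e
      · rw [hTM]
        exact Subgroup.map_equiv_normalizer_eq T (MulAut.conj g)
    · obtain ⟨T, hT, hT1, hTK⟩ := hK
      obtain ⟨M', hM', hKM⟩ := exists_maximalTwoLocal hT hT1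
      obtain ⟨k, hk⟩ := h M M' hM hM'
      refine (Subgroup.eq_of_le_of_card_ge hle ?_).symm
      rw [Subgroup.card_map_of_injective (MulAut.conj g).injective, hTK]
      refine le_trans (Subgroup.card_le_of_le hKM) ?_
      rw [hk, Subgroup.card_map_of_injective (MulAut.conj k).injective]
    · have hgS : ((g • S : Sylow 2 G) : Subgroup G) ≤ M := by
        rw [e, Sylow.coe_subgroup_smul]
        rintro _ ⟨k, hk, rfl⟩
        exact ⟨k, hSM hk, rfl⟩
      obtain ⟨m, hm⟩ := MulAction.exists_smul_eq M ((g • S).subtype hgS) (S.subtype hSM)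
      have hmS : ((m : G) * g) • S = S := by
        rw [mul_smul]
        exact Sylow.subtype_injective (by rwa [Sylow.smul_subtype] at hm)
      have := M.mul_mem (M.inv_mem m.2) (hN (Sylow.smul_eq_iff_mem_normalizer.1 hmS))
      simpa using this

end CfsgLib.StrongEmb.OneLocalClass
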