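import Cfsg.Agent.StrongEmb.CentralTransitive

/-!
Step F of campaign 53, descent at one prime.

If every nontrivial `s`-subgroup of the two-point stabiliser `E` has its centraliser centrally
transitive on its fixed cosets, then `E` has full `s`-part in `H` and controls the `s`-transfer:
when `s` divides `|E : E'|`, `H` has a proper normal subgroup, containing every `s'`-element (so
every involution), still transitive off `H`, not containing `E`.
-/

set_option autoImplicit false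

universe u

namespace CfsgLib.StrongEmb

open Cfsg CfsgLib.StronglyEmbedded

variable {G : Type u} [Group G] [Finite G] {H : Subgroup G}

/-- Descent at a prime `s` of `|E : E'|`. -/
theorem exists_primeDescent (hH : IsStronglyEmbedded H) (ht : TransitiveOff H) {a : G ⧸ H}
    (ha : a ≠ ((1 : G) : G ⧸ H)) {s : ℕ} (hs : s.Prime)
    (hC : ∀ Q : Subgroup G, Q ≤ pairStab H ((1 : G) : G ⧸ H) a → IsPGroup s Q → Q ≠ ⊥ →
      CentralAt H Q a)
    (hsE : s ∣ (commutator ↥(pairStab H ((1 : G) : G ⧸ H) a)).index) :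
    ∃ M : Subgroup G, M ≤ H ∧ M ≠ H ∧ (∀ h ∈ H, ∀ x ∈ M, h * x * h⁻¹ ∈ M) ∧
      (∀ x ∈ H, Nat.Coprime (orderOf x) s → x ∈ M) ∧
      (∀ t : G, orderOf t = 2 → t ∈ H → t ∈ M) ∧
      (∀ g₁ g₂ : G, g₁ ∉ H → g₂ ∉ H → ∃ x ∈ M, g₂⁻¹ * (x * g₁) ∈ H) ∧
      ¬ pairStab H ((1 : G) : G ⧸ H) a ≤ M := by
  classical
  set d : G ⧸ H := ((1 : G) : G ⧸ H) with hd
  set E := pairStab H d a with hE
  have hEH : E ≤ H := fun x hx => (smul_eq_one_coset_iff x).mp hx.1
  set E' : Subgroup H := E.subgroupOf H with hE'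
  have hEc : Nat.card E' = Nat.card E :=
    Nat.card_congr (Subgroup.subgroupOfEquivOfLe hEH).toEquiv
  have hodd : Odd (Nat.card E) := odd_pairStab hH ha.symm
  have hsdvd : s ∣ Nat.card E := hsE.trans (Subgroup.index_dvd_card _)
  have hs2 : s ≠ 2 := fun h => Nat.not_even_iff_odd.mpr hodd (even_iff_two_dvd.mpr (h ▸ hsdvd))
  have hsi : ¬ s ∣ E'.index := by
    have h1 := E'.card_mul_index
    rw [hEc, ← RegularQ.card_eq_pairStab_mul hH ht ha, ← hd, ← hE] at h1
    rw [Nat.eq_of_mul_eq_mul_left Nat.card_pos h1]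
    exact RegularQ.not_dvd_index_of_central hH ht ha hs hsdvd hC
  -- elements of order prime to `s`
  set L : Subgroup H := Subgroup.closure {x : H | ∃ j, x ^ 2 ^ j = 1} with hL
  have hLgen : L ≤ Subgroup.closure {x : H | x ∈ (⊤ : Subgroup H) ∧ Nat.Coprime (orderOf x) s} := by
    refine Subgroup.closure_mono fun x ⟨j, hj⟩ => ⟨Subgroup.mem_top x, ?_⟩
    exact Nat.Coprime.coprime_dvd_left (orderOf_dvd_of_pow_eq_one hj)
      (Nat.Coprime.pow_left j ((Nat.coprime_primes Nat.prime_two hs).mpr hs2.symm))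
  have hctl : ∀ Q : Subgroup H, Q ≤ E' → IsPGroup s Q → Q ≠ ⊥ →
      ∀ n ∈ Subgroup.normalizer (Q : Set H),
        ∃ c ∈ L ⊓ Subgroup.centralizer (Q : Set H), c⁻¹ * n ∈ E' := by
    intro Q hQE hQp hQne n hn
    have hQne' : Q.map H.subtype ≠ ⊥ := fun h =>
      hQne ((Subgroup.map_eq_bot_iff_of_injective _ H.subtype_injective).mp h)
    have hQ' : Q.map H.subtype ≤ E := by
      rintro _ ⟨x, hx, rfl⟩
      exact hQE hx
    have hb : (n : G) • a ∈ fixSet H (Q.map H.subtype) :=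
      smul_mem_fixSet (Subgroup.le_normalizer_map H.subtype (Subgroup.mem_map.mpr ⟨n, hn, rfl⟩))
        fun x hx => (hQ' hx).2
    have hbd : (n : G) • a ≠ d := fun h => ha (smul_left_cancel (n : G)
      (h.trans ((smul_eq_one_coset_iff _).mpr n.2).symm))
    obtain ⟨c, hc, hca⟩ := (hC _ hQ' (hQp.map _) hQne').1 _ hb hbd
    have hle : twoCentral H (Q.map H.subtype) ≤
        (L ⊓ Subgroup.centralizer (Q : Set H)).map H.subtype := by
      refine (Subgroup.closure_le _).mpr ?_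
      rintro x ⟨hxH, hxC, j, hj⟩
      refine ⟨⟨x, hxH⟩, ⟨Subgroup.subset_closure ⟨j, Subtype.ext hj⟩, ?_⟩, rfl⟩
      exact Subgroup.mem_centralizer_iff.mpr fun y hy => Subtype.ext
        (Subgroup.mem_centralizer_iff.mp hxC _ ⟨y, hy, rfl⟩)
    obtain ⟨c', hc', rfl⟩ := hle hc
    refine ⟨c', hc', ?_⟩
    have h1 : ((c'⁻¹ * n : H) : G) • a = a := by
      rw [Subgroup.coe_mul, Subgroup.coe_inv, mul_smul, inv_smul_eq_iff]
      exact hca.symm
    exact ⟨(smul_eq_one_coset_iff _).mpr (c'⁻¹ * n).2, h1⟩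
  have hpd : s ∣ (commutator ↥((⊤ : Subgroup H) ⊓ E')).index := by
    rw [top_inf_eq]
    have h2 : (commutator ↥E').map (Subgroup.subgroupOfEquivOfLe hEH).toMonoidHom =
        commutator ↥E := by
      rw [commutator_def, Subgroup.map_commutator,
        Subgroup.map_top_of_surjective _ (Subgroup.subgroupOfEquivOfLe hEH).surjective,
        commutator_def]
    rw [← h2] at hsE
    exact (Subgroup.index_map_equiv (commutator ↥E') (Subgroup.subgroupOfEquivOfLe hEH)) ▸ hsE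
  obtain ⟨M, hMn, hlt, -, hsup, hmem⟩ := HallComplement.step_at (N := (⊤ : Subgroup H)) hs hsi hctl
    le_top hLgen (top_sup_eq _) hpd
  have hcop : ∀ x ∈ H, Nat.Coprime (orderOf x) s → x ∈ M.map H.subtype := fun x hx hxs =>
    ⟨⟨x, hx⟩, hmem _ (Subgroup.mem_top _) (by rwa [← Subgroup.orderOf_coe]), rfl⟩
  refine ⟨M.map H.subtype, Subgroup.map_subtype_le M, ?_, ?_, hcop,
    fun t ht2 htH => hcop t htH (ht2.symm ▸ (Nat.coprime_primes Nat.prime_two hs).mpr hs2.symm),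
    ?_, ?_⟩
  · intro h
    refine hlt.ne (eq_top_iff.mpr fun x _ => ?_)
    have hx : (x : G) ∈ M.map H.subtype := h.symm ▸ x.2
    obtain ⟨y, hy, hyx⟩ := hx
    exact Subtype.ext hyx ▸ hy
  · rintro h hh _ ⟨x, hx, rfl⟩
    exact ⟨⟨h, hh⟩ * x * ⟨h, hh⟩⁻¹, hMn.conj_mem x hx ⟨h, hh⟩, rfl⟩
  · intro g₁ g₂ hg₁ hg₂
    have hne : ∀ g : G, g ∉ H → ((g : G) : G ⧸ H) ≠ d := fun g hg h => hg (by
      have := QuotientGroup.eq.mp h
      simpa using this)
    have htr : ∀ b : G ⧸ H, b ≠ d → ∃ x ∈ M.map H.subtype, x • a = b := by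
      intro b hb
      obtain ⟨g, hgd, hga⟩ := exists_smul_pair ht ha.symm hb.symm
      have hgH : g ∈ H := (smul_eq_one_coset_iff g).mp hgd
      have hmem' : (⟨g, hgH⟩ : H) ∈ M ⊔ E' := hsup ▸ Subgroup.mem_top _
      obtain ⟨n, hn, e, he, hne'⟩ := Subgroup.mem_sup_of_normal_left.mp hmem'
      refine ⟨(n : G), ⟨n, hn, rfl⟩, ?_⟩
      have h1 : (n : G) * (e : G) = g := congrArg Subtype.val hne'
      rw [← hga, ← h1, mul_smul]
      exact congrArg _ (Subgroup.mem_subgroupOf.mp he).2.symm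
    obtain ⟨q₁, hq₁, h1⟩ := htr _ (hne g₁ hg₁)
    obtain ⟨q₂, hq₂, h2⟩ := htr _ (hne g₂ hg₂)
    refine ⟨q₂ * q₁⁻¹, (M.map H.subtype).mul_mem hq₂ ((M.map H.subtype).inv_mem hq₁),
      QuotientGroup.eq.mp ?_⟩
    have h3 : (q₂ * q₁⁻¹) • (g₁ : G ⧸ H) = (g₂ : G ⧸ H) := by
      rw [mul_smul, ← h1, inv_smul_smul, h2]
    exact h3.symm
  · intro hle
    refine hlt.ne (top_unique (hsup ▸ sup_le le_rfl fun x hx => ?_))
    obtain ⟨y, hy, hyx⟩ := hle (Subgroup.mem_subgroupOf.mp hx)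
    exact Subtype.ext hyx ▸ hy

end CfsgLib.StrongEmb
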