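import Cfsg.Agent.StrongEmb.SplitTheta
import Cfsg.Agent.Chars.Dade.Basic
import Cfsg.Agent.Chars.Exceptional.NormTwo
import Cfsg.Agent.S0205
import Cfsg.Agent.S1500
import Cfsg.Agent.S1501

/-!
A character whose restriction to an abelian subgroup `J` is regular, when a split `L = J W` of odd
order satisfies the Dade hypothesis on the elements centralizing part of `J`: each constituent has
degree dividing `|W|`, except at most one, and that one occurs once.
-/

set_option autoImplicit false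
set_option linter.style.haveILetI false
set_option linter.unusedSectionVars false

noncomputable section

universe u

namespace CfsgLib.StrongEmb.RegularDade

open Cfsg SplitTheta
open scoped ComplexConjugate Classical

variable {K : Type u} [Group K] [Fintype K] {L : Subgroup K} {J W : Subgroup L}

/-- The hypotheses of `exists_exceptional`. -/
structure Setting (J W : Subgroup L) (A : Set K) (Hs : K → Subgroup K) (π : K → ℂ) : Prop where
  split : IsSplit J W
  odd : Odd (Nat.card L)
  dade : DadeHypothesis A L Hs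
  mem : ∀ (j : J) (w : W), (j : L) * (w : L) ≠ 1 →
    (∃ i ∈ J, i ≠ 1 ∧ (w : L) * i = i * (w : L)) → (((j : L) * (w : L) : L) : K) ∈ A
  bot : ∀ j : J, (j : L) ≠ 1 → Hs ((j : L) : K) = ⊥
  char : IsCharacter K π
  perm : ∀ (j : J) (w : W), π (((j : L) * (w : L) : L) : K) =
    Nat.card {i : J // (j : L) * ((w : L) * i * (w : L)⁻¹) = i}
  avg : ∀ a ∈ A, Chars.Dade.avg π (Hs a) a = π a

/-- The restriction to `J`. -/
def resJ (J : Subgroup L) (f : K → ℂ) (j : J) : ℂ := f ((j : L) : K)

theorem isCharacter_resJ {f : K → ℂ} (hf : IsCharacter K f) : IsCharacter J (resJ J f) :=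
  Chars.isCharacter_comp hf (L.subtype.comp J.subtype)

/-- The multiplicity of `l` in the restriction of `η` to `J`. -/
def cnat (η : IrrCharacter K) (l : J →* ℂˣ) : ℕ :=
  (Chars.exists_nat_classInner (isCharacter_resJ (Chars.isCharacter_coe η))
    (Chars.linChar l)).choose

theorem classInner_resJ (η : IrrCharacter K) (l : J →* ℂˣ) :
    classInner (resJ J (η : K → ℂ)) (fun j : J => ((l j : ℂˣ) : ℂ)) = (cnat η l : ℂ) := by
  have h := (Chars.exists_nat_classInner (isCharacter_resJ (J := J) (Chars.isCharacter_coe η))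
    (Chars.linChar l)).choose_spec
  rw [← show ((Chars.linChar l : IrrCharacter J) : J → ℂ) = fun j => ((l j : ℂˣ) : ℂ) from
    funext fun j => Chars.linChar_apply l j]
  exact h

theorem cnat_lconj (h : IsSplit J W) (η : IrrCharacter K) (v : L) (l : J →* ℂˣ) :
    cnat η (h.lconj v l) = cnat η l := by
  refine Nat.cast_injective (R := ℂ) ?_
  rw [← classInner_resJ, ← classInner_resJ, classInner, classInner]
  congr 1
  let e : J ≃ J :=
    { toFun := fun j => ⟨v⁻¹ * j * v, by simpa using h.conj_mem v⁻¹ j j.2⟩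
      invFun := fun j => ⟨v * j * v⁻¹, h.conj_mem v j j.2⟩
      left_inv := fun j => Subtype.ext (by group)
      right_inv := fun j => Subtype.ext (by group) }
  refine Fintype.sum_equiv e _ _ fun j => ?_
  congr 1
  simp only [resJ, e, Equiv.coe_fn_mk, Subgroup.coe_mul, Subgroup.coe_inv]
  rw [← Chars.isClassFunction_coe η ((j : L) : K) ((v : K)⁻¹), inv_inv]

theorem eq_of_coef_eq (h : IsSplit J W) (η : IrrCharacter K) {f : J → ℂ}
    (hf : ∀ l : J →* ℂˣ, classInner f (fun j : J => ((l j : ℂˣ) : ℂ)) = (cnat η l : ℂ)) (j : J) :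
    (η : K → ℂ) ((j : L) : K) = f j := by
  haveI : IsMulCommutative J := ⟨⟨fun a b => Subtype.ext (h.comm a a.2 b b.2)⟩⟩
  have hcf : ∀ F : J → ℂ, IsClassFunction J F := fun F x y => by
    congr 1
    exact Subtype.ext (by
      have := h.comm y y.2 x x.2
      simp only [Subgroup.coe_mul, InvMemClass.coe_inv, this, mul_inv_cancel_right])
  refine congrFun (Chars.eq_of_classInner_eq (hcf (resJ J (η : K → ℂ))) (hcf f) fun χ => ?_) j
  obtain ⟨l, rfl⟩ := Chars.exists_linChar_eq χ (Chars.map_one_eq_one_of_isMulCommutative χ)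
  rw [show ((Chars.linChar l : IrrCharacter J) : J → ℂ) = fun j => ((l j : ℂˣ) : ℂ) from
    funext fun j => Chars.linChar_apply l j, classInner_resJ, hf]

theorem exists_cnat_ne_zero (h : IsSplit J W) (η : IrrCharacter K) :
    ∃ l : J →* ℂˣ, cnat η l ≠ 0 := by
  by_contra hc
  push Not at hc
  have := eq_of_coef_eq h η (f := 0) (fun l => by rw [hc l, Nat.cast_zero]; simp [classInner]) 1
  exact Chars.map_one_ne_zero η (by simpa using this)

/-- The orbit relation of `W` on linear characters of `J`. -/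
def Orb (h : IsSplit J W) (l l' : J →* ℂˣ) : Prop := ∃ v ∈ W, h.lconj v l = l'

theorem orb_refl (h : IsSplit J W) (l : J →* ℂˣ) : Orb h l l := ⟨1, W.one_mem, h.lconj_one l⟩

theorem orb_symm {h : IsSplit J W} {l l' : J →* ℂˣ} (e : Orb h l l') : Orb h l' l := by
  obtain ⟨v, hv, rfl⟩ := e
  exact ⟨v⁻¹, W.inv_mem hv, by rw [h.lconj_lconj, inv_mul_cancel, h.lconj_one]⟩

theorem orb_trans {h : IsSplit J W} {l l' l'' : J →* ℂˣ} (e : Orb h l l') (e' : Orb h l' l'') :
    Orb h l l'' := by
  obtain ⟨v, hv, rfl⟩ := e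
  obtain ⟨w, hw, rfl⟩ := e'
  exact ⟨w * v, W.mul_mem hw hv, (h.lconj_lconj w v l).symm⟩

theorem classInner_theta_orb {h : IsSplit J W} {T : Subgroup L} {l : J →* ℂˣ} (hT : IsStab h l T)
    (μ : T →* ℂˣ) (m : J →* ℂˣ) :
    classInner (fun j : J => theta h T l μ j) (fun j : J => ((m j : ℂˣ) : ℂ)) =
      if Orb h l m then (1 : ℂ) else 0 := by
  rw [classInner_theta_lin hT]
  by_cases hm : Orb h l m
  · rw [if_pos hm]
    exact if_pos hm
  · rw [if_neg hm]
    exact if_neg hm

variable {A : Set K} {Hs : K → Subgroup K} {π : K → ℂ}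

/-- The multiplicity of `η` in `π`. -/
def mult (hS : Setting J W A Hs π) (η : IrrCharacter K) : ℕ :=
  (Chars.exists_nat_classInner hS.char η).choose

variable (hS : Setting J W A Hs π)

include hS

theorem classInner_mult (η : IrrCharacter K) : classInner π (η : K → ℂ) = (mult hS η : ℂ) :=
  (Chars.exists_nat_classInner hS.char η).choose_spec

theorem classInner_mult' (η : IrrCharacter K) : classInner (η : K → ℂ) π = (mult hS η : ℂ) := by
  rw [← Chars.classInner_conj_symm, classInner_mult hS, map_natCast]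

theorem coe_ne_one {j : J} (hj : j ≠ 1) : (j : L) ≠ 1 := fun e => hj (Subtype.ext e)

theorem sum_mult_cnat (l : J →* ℂˣ) : ∑ η : IrrCharacter K, mult hS η * cnat η l = 1 := by
  refine Nat.cast_injective (R := ℂ) ?_
  have hπ : resJ J π = ∑ η : IrrCharacter K, (mult hS η : ℂ) • resJ J (η : K → ℂ) := by
    funext j
    simp only [resJ, Finset.sum_apply, Pi.smul_apply, smul_eq_mul]
    rw [Chars.eq_sum_classInner_mul (Chars.Brauer.isClassFunction_of_gen
      (Chars.Exceptional.gen_of_char hS.char))]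
    exact Finset.sum_congr rfl fun η _ => by rw [classInner_mult hS]
  have h1 : classInner (resJ J π) (fun j : J => ((l j : ℂˣ) : ℂ)) = 1 := by
    have hval : ∀ j : J, resJ J π j = if j = 1 then (Nat.card J : ℂ) else 0 := by
      intro j
      have := hS.perm j 1
      simp only [OneMemClass.coe_one, mul_one, one_mul, inv_one] at this
      rw [resJ, this]
      split_ifs with hj
      · subst hj
        simp only [OneMemClass.coe_one, one_mul]
        rw [Nat.card_congr (Equiv.subtypeUnivEquiv fun _ => trivial)]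
      · have : IsEmpty {i : J // (j : L) * i = i} :=
          ⟨fun i => coe_ne_one hS hj (mul_eq_right.mp i.2)⟩
        rw [Nat.card_of_isEmpty, Nat.cast_zero]
    simp only [classInner, hval, ite_mul, zero_mul, Finset.sum_ite_eq', Finset.mem_univ, if_true,
      map_one, Units.val_one, mul_one]
    exact inv_mul_cancel₀ (Nat.cast_ne_zero.mpr Nat.card_pos.ne')
  rw [Nat.cast_sum, Nat.cast_one, ← h1, hπ, Chars.classInner_sum_left]
  exact Finset.sum_congr rfl fun η _ => by
    rw [Chars.classInner_smul_left, classInner_resJ, Nat.cast_mul]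

theorem cnat_le_one {η : IrrCharacter K} (hη : mult hS η ≠ 0) (l : J →* ℂˣ) : cnat η l ≤ 1 :=
  (Nat.le_mul_of_pos_left _ (Nat.pos_of_ne_zero hη)).trans
    ((Finset.single_le_sum (f := fun η => mult hS η * cnat η l) (fun _ _ => Nat.zero_le _)
      (Finset.mem_univ η)).trans (sum_mult_cnat hS l).le)

theorem mult_eq_one {η : IrrCharacter K} (hη : mult hS η ≠ 0) {l : J →* ℂˣ} (hl : cnat η l ≠ 0) :
    mult hS η = 1 ∧ cnat η l = 1 := by
  have h := (Finset.single_le_sum (f := fun η => mult hS η * cnat η l) (fun _ _ => Nat.zero_le _)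
      (Finset.mem_univ η)).trans (sum_mult_cnat hS l).le
  have := Nat.pos_of_ne_zero hη
  have := Nat.pos_of_ne_zero hl
  exact mul_eq_one.mp (le_antisymm h (Nat.mul_pos ‹_› ‹_›))

theorem eq_of_cnat {η η' : IrrCharacter K} (hη : mult hS η ≠ 0) (hη' : mult hS η' ≠ 0)
    {l : J →* ℂˣ} (hl : cnat η l ≠ 0) (hl' : cnat η' l ≠ 0) : η = η' := by
  by_contra hne
  have h := Finset.sum_le_sum_of_subset (f := fun η => mult hS η * cnat η l)
    (Finset.subset_univ {η, η'})
  rw [sum_mult_cnat hS l, Finset.sum_pair hne] at h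
  have := Nat.mul_pos (Nat.pos_of_ne_zero hη) (Nat.pos_of_ne_zero hl)
  have := Nat.mul_pos (Nat.pos_of_ne_zero hη') (Nat.pos_of_ne_zero hl')
  omega

theorem exists_constituent (l : J →* ℂˣ) :
    ∃ η : IrrCharacter K, mult hS η ≠ 0 ∧ cnat η l ≠ 0 := by
  obtain ⟨η, -, hη⟩ := Finset.exists_ne_zero_of_sum_ne_zero
    (by rw [sum_mult_cnat hS l]; exact one_ne_zero)
  exact ⟨η, left_ne_zero_of_mul hη, right_ne_zero_of_mul hη⟩

theorem lconj_eq_inv {l : J →* ℂˣ} (hl : l ≠ 1) : ¬ Orb hS.split l l⁻¹ := by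
  rintro ⟨v, hv, e⟩
  obtain ⟨T, hT⟩ := exists_isStab hS.split l
  have h2 : v * v ∈ T := (hT.mem_iff _ (W.mul_mem hv hv)).mpr (by
    rw [← hS.split.lconj_lconj, e, hS.split.lconj_inv_apply, e]
    exact MonoidHom.ext fun j => inv_inv _)
  obtain ⟨m, hm⟩ := hS.odd.of_dvd_nat (orderOf_dvd_natCard v)
  have hvT : v ∈ T := by
    have := T.pow_mem h2 (m + 1)
    rwa [← pow_two, ← pow_mul, show 2 * (m + 1) = orderOf v + 1 by omega, pow_succ,
      pow_orderOf_eq_one, one_mul] at this
  have e2 : l = l⁻¹ := by rw [← e, (hT.mem_iff v hv).mp hvT]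
  refine hl (MonoidHom.ext fun j => ?_)
  have hsq : (l j) ^ 2 = 1 := by
    have := DFunLike.congr_fun e2 j
    rw [MonoidHom.inv_apply] at this
    rw [pow_two]
    exact mul_eq_one_iff_eq_inv.mpr this
  have hn : (l j) ^ Nat.card J = 1 := by rw [← map_pow, pow_card_eq_one', map_one]
  have hJ : Odd (Nat.card J) := hS.odd.of_dvd_nat (Subgroup.card_subgroup_dvd_card J)
  have := pow_gcd_eq_one.mpr ⟨hsq, hn⟩
  rwa [Nat.coprime_two_left.mpr hJ, pow_one] at this

theorem theta_eq_zero {T : Subgroup L} {l : J →* ℂˣ} (hT : IsStab hS.split l T) (hl : l ≠ 1)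
    (μ : T →* ℂˣ) {x : L} (hx : x ≠ 1) (hxA : (x : K) ∉ A) : theta hS.split T l μ x = 0 := by
  obtain ⟨⟨j, w⟩, rfl⟩ := hS.split.prodEquiv.surjective x
  show theta hS.split T l μ ((j : L) * w) = 0
  rw [theta_mul]
  refine mul_eq_zero_of_right _ (Finset.sum_eq_zero fun v _ => ?_)
  rw [muExt, dif_neg, mul_zero]
  intro hv
  obtain ⟨i, hi, hi1, hc⟩ := exists_commute_of_lconj_eq (h := hS.split) hl
    ((hT.mem_iff _ (hT.le hv)).mp hv)
  refine hxA (hS.mem j w hx ⟨(v : L) * i * (v : L)⁻¹, hS.split.conj_mem v i hi, fun e => hi1 ?_,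
    ?_⟩)
  · exact conj_eq_one_iff.mp e
  · calc (w : L) * ((v : L) * i * (v : L)⁻¹)
        = (v : L) * ((v : L)⁻¹ * w * v * i) * (v : L)⁻¹ := by group
      _ = (v : L) * (i * ((v : L)⁻¹ * w * v)) * (v : L)⁻¹ := by rw [hc]
      _ = (v : L) * i * (v : L)⁻¹ * w := by group

/-- The properties of the Dade image used below. -/
theorem dade_props {α : L → ℂ} (hα : IsGeneralizedCharacter L α) (h1 : α 1 = 0)
    (hsupp : ∀ x : L, x ≠ 1 → (x : K) ∉ A → α x = 0) :
    (classInner α α = 2 → ∃ C D : IrrCharacter K, C ≠ D ∧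
      dadeIsometry A L Hs α = (C : K → ℂ) - (D : K → ℂ)) ∧
    classInner (dadeIsometry A L Hs α) π = classInner α (fun x : L => π x) ∧
    (∀ j : J, dadeIsometry A L Hs α ((j : L) : K) = α j) := by
  have hA : ∀ x : L, (x : K) ∉ A → α x = 0 := fun x hx => by
    by_cases e : x = 1
    · rw [e, h1]
    · exact hsupp x e hx
  have hcl := Chars.Brauer.isClassFunction_of_gen hα
  refine ⟨fun h2 => ?_, ?_, fun j => ?_⟩
  · obtain ⟨C, D, hC, hD, hne, e⟩ := Chars.Exceptional.gen_norm_two
      (Cfsg.Agent.S1501.result A L Hs hS.dade α hα hA)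
      ((Cfsg.Agent.S1500.result A L Hs hS.dade α hcl hA).1 α hcl hA |>.trans h2)
      (Chars.Dade.dade_one hS.dade α)
    exact ⟨⟨C, hC⟩, ⟨D, hD⟩, fun e' => hne (congrArg Subtype.val e'), e⟩
  · exact Chars.Dade.classInner_dade hS.dade hcl hA
      (Chars.Brauer.isClassFunction_of_gen (Chars.Exceptional.gen_of_char hS.char))
      fun a ha => (hS.avg a ha).symm
  · by_cases hj : j = 1
    · subst hj
      rw [OneMemClass.coe_one, OneMemClass.coe_one, Chars.Dade.dade_one hS.dade, h1]
    · have hA' : ((j : L) : K) ∈ A := by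
        obtain ⟨i, hi⟩ : ∃ i : J, i ≠ 1 := ⟨j, hj⟩
        have := hS.mem j 1 (by simpa using hj)
          ⟨i, i.2, coe_ne_one hS hi, by simp⟩
        simpa using this
      exact Chars.Dade.dade_apply hS.dade hcl hA' (x := 1) (Subgroup.one_mem _) (by simp)

theorem dade_coef {α : L → ℂ} (hα : IsGeneralizedCharacter L α) (h1 : α 1 = 0)
    (hsupp : ∀ x : L, x ≠ 1 → (x : K) ∉ A → α x = 0) {C D : IrrCharacter K}
    (e : dadeIsometry A L Hs α = (C : K → ℂ) - (D : K → ℂ)) :
    ((mult hS C : ℂ) - mult hS D = classInner α (fun x : L => π x)) ∧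
    ∀ l : J →* ℂˣ, (cnat C l : ℂ) - cnat D l =
      classInner (fun j : J => α j) (fun j : J => ((l j : ℂˣ) : ℂ)) := by
  obtain ⟨-, hπ, hJ⟩ := dade_props hS hα h1 hsupp
  refine ⟨?_, fun l => ?_⟩
  · rw [← hπ, e, Chars.classInner_sub_left, classInner_mult' hS, classInner_mult' hS]
  · rw [← classInner_resJ, ← classInner_resJ, ← Chars.classInner_sub_left]
    congr 1
    funext j
    rw [← hJ j, e]
    rfl

theorem dade_cross {α β : L → ℂ} (hα : IsGeneralizedCharacter L α) (hα1 : α 1 = 0)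
    (hαs : ∀ x : L, x ≠ 1 → (x : K) ∉ A → α x = 0)
    (hβ : IsGeneralizedCharacter L β) (hβ1 : β 1 = 0)
    (hβs : ∀ x : L, x ≠ 1 → (x : K) ∉ A → β x = 0) {C D C' D' : IrrCharacter K}
    (e : dadeIsometry A L Hs α = (C : K → ℂ) - (D : K → ℂ))
    (e' : dadeIsometry A L Hs β = (C' : K → ℂ) - (D' : K → ℂ)) {z : ℤ}
    (hz : classInner α β = (z : ℂ)) :
    (if C = C' then (1 : ℤ) else 0) - (if C = D' then 1 else 0) -
      (if D = C' then 1 else 0) + (if D = D' then 1 else 0) = z := by
  have hA : ∀ {γ : L → ℂ}, γ 1 = 0 → (∀ x : L, x ≠ 1 → (x : K) ∉ A → γ x = 0) →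
      ∀ x : L, (x : K) ∉ A → γ x = 0 := fun {γ} g1 g x hx => by
    by_cases e : x = 1
    · rw [e, g1]
    · exact g x e hx
  have h := (Cfsg.Agent.S1500.result A L Hs hS.dade α (Chars.Brauer.isClassFunction_of_gen hα)
    (hA hα1 hαs)).1 β (Chars.Brauer.isClassFunction_of_gen hβ) (hA hβ1 hβs)
  rw [e, e', hz, Chars.classInner_sub_left, Chars.Exceptional.inner_sub_right,
    Chars.Exceptional.inner_sub_right] at h
  simp only [Chars.classInner_irr] at h
  refine Int.cast_injective (α := ℂ) ?_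
  push_cast
  linear_combination h

/-- From a difference of two orbits: the fibre of the first constituent is the first orbit. -/
theorem cnat_of_diff {C D : IrrCharacter K} (hne : C ≠ D) (hC : mult hS C ≠ 0) (hD : mult hS D ≠ 0)
    {l l' : J →* ℂˣ} (hll : ¬ Orb hS.split l l')
    (h : ∀ m : J →* ℂˣ, (cnat C m : ℂ) - cnat D m =
      (if Orb hS.split l m then 1 else 0) - (if Orb hS.split l' m then 1 else 0))
    (m : J →* ℂˣ) : cnat C m = if Orb hS.split l m then 1 else 0 := by
  have h1 : (cnat C m : ℤ) - cnat D m =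
      (if Orb hS.split l m then 1 else 0) - (if Orb hS.split l' m then 1 else 0) :=
    Int.cast_injective (α := ℂ) (by push_cast; exact h m)
  have hC1 := cnat_le_one hS hC m
  have hD1 := cnat_le_one hS hD m
  have hzero : cnat C m = 0 ∨ cnat D m = 0 := by
    by_contra hc
    push Not at hc
    exact hne (eq_of_cnat hS hC hD hc.1 hc.2)
  by_cases hm : Orb hS.split l m
  · rw [if_pos hm, if_neg fun e => hll (orb_trans hm (orb_symm e))] at h1
    rw [if_pos hm]
    omega
  · rw [if_neg hm] at h1 ⊢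
    split_ifs at h1 <;> omega

/-- A nonregular orbit is the whole fibre of its constituent. -/
theorem exists_single {T : Subgroup L} {l : J →* ℂˣ} (hT : IsStab hS.split l T) (hl : l ≠ 1)
    (hT1 : T ≠ ⊥) : ∃ C : IrrCharacter K, mult hS C ≠ 0 ∧
      ∀ m : J →* ℂˣ, cnat C m = if Orb hS.split l m then 1 else 0 := by
  set h := hS.split
  have hTo : Odd (Nat.card T) := hS.odd.of_dvd_nat (Subgroup.card_subgroup_dvd_card T)
  haveI : Nontrivial T := T.nontrivial_iff_ne_bot.mpr hT1
  haveI : Group.IsSolvable T := Cfsg.Agent.S0205.result hTo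
  obtain ⟨μ, hμ⟩ := Chars.exists_nontrivial_linChar (G := T)
    (Group.IsSolvable.commutator_lt_top_of_nontrivial T).ne
  have hμμ : μ ≠ μ⁻¹ := by
    intro e
    refine hμ (MonoidHom.ext fun t => ?_)
    have hsq : (μ t) ^ 2 = 1 := by
      have := DFunLike.congr_fun e t
      rw [MonoidHom.inv_apply] at this
      rw [pow_two]
      exact mul_eq_one_iff_eq_inv.mpr this
    have hn : (μ t) ^ Nat.card T = 1 := by rw [← map_pow, pow_card_eq_one', map_one]
    have := pow_gcd_eq_one.mpr ⟨hsq, hn⟩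
    rwa [Nat.coprime_two_left.mpr hTo, pow_one] at this
  have hgen : ∀ (m : J →* ℂˣ) (hTm : IsStab h m T) (ν : T →* ℂˣ),
      IsGeneralizedCharacter L (theta h T m ν) := fun m hTm ν =>
    Chars.Exceptional.gen_of_char (isCharacter_theta hTm ν)
  have hone : ∀ (m : J →* ℂˣ) (ν : T →* ℂˣ),
      theta h T m ν 1 = (Nat.card T : ℂ)⁻¹ * Nat.card W := fun m ν => by
    have e := theta_of_mem (h := h) (T := T) (l := m) ν (1 : J)
    simp only [OneMemClass.coe_one, map_one, Units.val_one, Finset.sum_const, Finset.card_univ,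
      nsmul_eq_mul, mul_one, ← Nat.card_eq_fintype_card] at e
    exact e
  let f : (T →* ℂˣ) → L → ℂ := fun ν => theta h T l 1 - theta h T l ν
  have hf : ∀ ν, IsGeneralizedCharacter L (f ν) ∧ f ν 1 = 0 ∧
      ∀ x : L, x ≠ 1 → (x : K) ∉ A → f ν x = 0 := fun ν =>
    ⟨Chars.Exceptional.gen_sub (hgen l hT 1) (hgen l hT ν),
      by simp only [f, Pi.sub_apply, hone, sub_self],
      fun x hx hxA => by
        simp only [f, Pi.sub_apply, theta_eq_zero hS hT hl _ hx hxA, sub_self]⟩
  -- the differences inside the orbit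
  have hAB : ∀ ν : T →* ℂˣ, ν ≠ 1 → ∃ a b : IrrCharacter K, a ≠ b ∧
      dadeIsometry A L Hs (f ν) = (a : K → ℂ) - (b : K → ℂ) ∧ mult hS a = 1 ∧ mult hS b = 0 ∧
      ∀ m : J →* ℂˣ, cnat a m = cnat b m := by
    intro ν hν
    obtain ⟨hg, h1, hs⟩ := hf ν
    have h2 : classInner (f ν) (f ν) = 2 := by
      simp only [f, Chars.classInner_sub_left, Chars.Exceptional.inner_sub_right,
        classInner_theta_self hT, if_neg hν, if_neg hν.symm, if_pos]
      norm_num
    obtain ⟨a, b, hab, e⟩ := (dade_props hS hg h1 hs).1 h2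
    obtain ⟨hm, hc⟩ := dade_coef hS hg h1 hs e
    have hm' : classInner (f ν) (fun x : L => π x) = 1 := by
      simp only [f, Chars.classInner_sub_left,
        classInner_theta_perm hT _ (π := fun x : L => π x) hS.perm, if_neg hν, if_pos, sub_zero]
    rw [hm'] at hm
    have hmn : mult hS a = mult hS b + 1 := by
      have : (mult hS a : ℂ) = ((mult hS b + 1 : ℕ) : ℂ) := by push_cast; linear_combination hm
      exact_mod_cast this
    have hcc : ∀ m, cnat a m = cnat b m := fun m => by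
      have h0 := hc m
      have : classInner (fun j : J => f ν j) (fun j : J => ((m j : ℂˣ) : ℂ)) = 0 := by
        simp [classInner, f, theta_of_mem]
      rw [this, sub_eq_zero] at h0
      exact_mod_cast h0
    obtain ⟨m, hm⟩ := exists_cnat_ne_zero h a
    have hb : mult hS b = 0 := by
      by_contra hb
      exact hab (eq_of_cnat hS (by omega) hb hm (hcc m ▸ hm))
    exact ⟨a, b, hab, e, by omega, hb, hcc⟩
  obtain ⟨a, b, hab, eab, ha, hb, hcab⟩ := hAB μ hμ
  have hμi : μ⁻¹ ≠ 1 := fun e =>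
    hμ (MonoidHom.ext fun t => inv_eq_one.mp (DFunLike.congr_fun e t))
  obtain ⟨a', b', hab', eab', ha', hb', hcab'⟩ := hAB μ⁻¹ hμi
  have hcross : classInner (f μ) (f μ⁻¹) = ((1 : ℤ) : ℂ) := by
    simp only [f, Chars.classInner_sub_left, Chars.Exceptional.inner_sub_right,
      classInner_theta_self hT, if_neg hμμ, if_neg hμ, if_neg hμi.symm, if_pos]
    norm_num
  have hc1 := dade_cross hS (hf μ).1 (hf μ).2.1 (hf μ).2.2 (hf μ⁻¹).1 (hf μ⁻¹).2.1 (hf μ⁻¹).2.2
    eab eab' hcross
  have hab'ne : a ≠ b' := fun e => by rw [e, hb'] at ha; omega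
  have hba'ne : b ≠ a' := fun e => by rw [e, ha'] at hb; omega
  rw [if_neg hab'ne, if_neg hba'ne] at hc1
  have haa : a = a' ∧ b ≠ b' := by
    by_cases e : a = a'
    · refine ⟨e, fun e' => ?_⟩
      rw [if_pos e, if_pos e'] at hc1
      omega
    · exfalso
      rw [if_neg e] at hc1
      by_cases e' : b = b'
      · obtain ⟨m, hm⟩ := exists_cnat_ne_zero h a
        exact e (eq_of_cnat hS (by omega) (by omega) hm
          (by rw [hcab' m, ← e', ← hcab m]; exact hm))
      · rw [if_neg e'] at hc1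
        omega
  obtain ⟨rfl, hbb⟩ := haa
  -- the difference with the inverse orbit
  have hli : l⁻¹ ≠ 1 := fun e =>
    hl (MonoidHom.ext fun j => inv_eq_one.mp (DFunLike.congr_fun e j))
  have hnl : ∀ v ∈ W, h.lconj v l ≠ l⁻¹ := fun v hv e => lconj_eq_inv hS hl ⟨v, hv, e⟩
  have hnli : ∀ v ∈ W, h.lconj v l⁻¹ ≠ l := fun v hv e =>
    lconj_eq_inv hS hl (orb_symm ⟨v, hv, e⟩)
  set g : L → ℂ := theta h T l 1 - theta h T l⁻¹ 1 with hgdef
  have hg : IsGeneralizedCharacter L g :=
    Chars.Exceptional.gen_sub (hgen l hT 1) (hgen l⁻¹ hT.inv 1)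
  have hg1 : g 1 = 0 := by simp only [hgdef, Pi.sub_apply, hone, sub_self]
  have hgs : ∀ x : L, x ≠ 1 → (x : K) ∉ A → g x = 0 := fun x hx hxA => by
    simp only [hgdef, Pi.sub_apply, theta_eq_zero hS hT hl _ hx hxA,
      theta_eq_zero hS hT.inv hli _ hx hxA, sub_self]
  have hg2 : classInner g g = 2 := by
    simp only [hgdef, Chars.classInner_sub_left, Chars.Exceptional.inner_sub_right,
      classInner_theta_self hT, classInner_theta_self hT.inv, classInner_theta_of_ne hnl,
      classInner_theta_of_ne hnli, if_pos]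
    norm_num
  obtain ⟨C, D, hCD, eg⟩ := (dade_props hS hg hg1 hgs).1 hg2
  obtain ⟨hmCD, hcCD⟩ := dade_coef hS hg hg1 hgs eg
  have hgπ : classInner g (fun x : L => π x) = 0 := by
    simp only [hgdef, Chars.classInner_sub_left,
      classInner_theta_perm hT _ (π := fun x : L => π x) hS.perm,
      classInner_theta_perm hT.inv _ (π := fun x : L => π x) hS.perm, if_pos, sub_self]
  rw [hgπ, sub_eq_zero, Nat.cast_inj] at hmCD
  have hgf : ∀ ν : T →* ℂˣ, ν ≠ 1 → classInner g (f ν) = ((1 : ℤ) : ℂ) := fun ν hν => by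
    simp only [hgdef, f, Chars.classInner_sub_left, Chars.Exceptional.inner_sub_right,
      classInner_theta_self hT, classInner_theta_of_ne hnli, if_neg hν.symm, if_pos]
    norm_num
  have h1 := dade_cross hS hg hg1 hgs (hf μ).1 (hf μ).2.1 (hf μ).2.2 eg eab (hgf μ hμ)
  have h2 := dade_cross hS hg hg1 hgs (hf μ⁻¹).1 (hf μ⁻¹).2.1 (hf μ⁻¹).2.2 eg eab' (hgf _ hμi)
  have hCne : mult hS C ≠ 0 := by
    intro hC0
    have hne : ∀ η, mult hS η = 0 → η ≠ a := fun η h0 e => by rw [e, ha] at h0; omega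
    rw [if_neg (hne C hC0), if_neg (hne D (hmCD ▸ hC0))] at h1 h2
    have hDb : D = b := by
      by_contra e
      rw [if_neg e] at h1
      split_ifs at h1 <;> omega
    have hDb' : D = b' := by
      by_contra e
      rw [if_neg e] at h2
      split_ifs at h2 <;> omega
    exact hbb (hDb.symm.trans hDb')
  have hne : ∀ η, mult hS η ≠ 0 → η ≠ b := fun η h0 e => h0 (e ▸ hb)
  rw [if_neg (hne C hCne), if_neg (hne D (hmCD ▸ hCne))] at h1
  have hCa : C = a := by
    by_contra e
    rw [if_neg e] at h1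
    split_ifs at h1 <;> omega
  subst hCa
  refine ⟨C, hCne, cnat_of_diff hS hCD hCne (hmCD ▸ hCne)
    (fun ⟨v, hv, e⟩ => hnl v hv e) fun m => ?_⟩
  rw [hcCD m]
  show classInner ((fun j : J => theta h T l 1 j) - fun j : J => theta h T l⁻¹ 1 j) _ = _
  rw [Chars.classInner_sub_left, classInner_theta_orb hT, classInner_theta_orb hT.inv]

/-- Two regular orbits are in one constituent or are the fibres of two. -/
theorem regular_pair {l l' : J →* ℂˣ} (hT : IsStab hS.split l (⊥ : Subgroup L))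
    (hT' : IsStab hS.split l' (⊥ : Subgroup L)) (hl : l ≠ 1) (hl' : l' ≠ 1)
    (hll : ¬ Orb hS.split l l') {C D : IrrCharacter K} (hC : mult hS C ≠ 0) (hD : mult hS D ≠ 0)
    (hCl : cnat C l ≠ 0) (hDl : cnat D l' ≠ 0) (hCD : C ≠ D) (m : J →* ℂˣ) :
    cnat C m = if Orb hS.split l m then 1 else 0 := by
  set h := hS.split
  set g : L → ℂ := theta h ⊥ l 1 - theta h ⊥ l' 1 with hgdef
  have hg : IsGeneralizedCharacter L g := Chars.Exceptional.gen_sub
    (Chars.Exceptional.gen_of_char (isCharacter_theta hT 1))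
    (Chars.Exceptional.gen_of_char (isCharacter_theta hT' 1))
  have hg1 : g 1 = 0 := by
    have e1 := theta_of_mem (h := h) (T := ⊥) (l := l) 1 (1 : J)
    have e2 := theta_of_mem (h := h) (T := ⊥) (l := l') 1 (1 : J)
    simp only [OneMemClass.coe_one, map_one] at e1 e2
    simp only [hgdef, Pi.sub_apply, e1, e2, sub_self]
  have hgs : ∀ x : L, x ≠ 1 → (x : K) ∉ A → g x = 0 := fun x hx hxA => by
    simp only [hgdef, Pi.sub_apply, theta_eq_zero hS hT hl _ hx hxA,
      theta_eq_zero hS hT' hl' _ hx hxA, sub_self]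
  have hne : ∀ v ∈ W, h.lconj v l ≠ l' := fun v hv e => hll ⟨v, hv, e⟩
  have hne' : ∀ v ∈ W, h.lconj v l' ≠ l := fun v hv e => hll (orb_symm ⟨v, hv, e⟩)
  have hg2 : classInner g g = 2 := by
    simp only [hgdef, Chars.classInner_sub_left, Chars.Exceptional.inner_sub_right,
      classInner_theta_self hT, classInner_theta_self hT', classInner_theta_of_ne hne,
      classInner_theta_of_ne hne', if_pos]
    norm_num
  obtain ⟨P, Q, hPQ, eg⟩ := (dade_props hS hg hg1 hgs).1 hg2
  -- on a function supported by `J` the coefficients are those of the restriction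
  have hsum : ∀ (k : J →* ℂˣ) (η : IrrCharacter K),
      classInner (theta h (⊥ : Subgroup L) k 1) (fun x : L => (η : K → ℂ) x) = (cnat η k : ℂ) := by
    intro k η
    rw [classInner, h.sum_eq, Finset.sum_comm, Finset.sum_eq_single (1 : W)]
    · simp only [OneMemClass.coe_one, mul_one, theta_of_mem, Subgroup.card_bot, Nat.cast_one,
        inv_one, one_mul, Finset.sum_mul]
      rw [Finset.sum_comm, Finset.sum_congr rfl (g := fun _ : W => (Nat.card J : ℂ) * cnat η k)]
      · rw [Finset.sum_const, Finset.card_univ, nsmul_eq_mul, ← Nat.card_eq_fintype_card,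
          h.card_eq, Nat.cast_mul]
        have hJ : (Nat.card J : ℂ) ≠ 0 := Nat.cast_ne_zero.mpr Nat.card_pos.ne'
        have hW : (Nat.card W : ℂ) ≠ 0 := Nat.cast_ne_zero.mpr Nat.card_pos.ne'
        field_simp
      · intro v _
        have e := classInner_resJ η (h.lconj v k)
        rw [cnat_lconj] at e
        have e' := congrArg conj e
        rw [Chars.classInner_conj_symm, map_natCast, classInner,
          inv_mul_eq_iff_eq_mul₀ (Nat.cast_ne_zero.mpr Nat.card_pos.ne')] at e'
        exact e'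
    · intro w _ hw
      refine Finset.sum_eq_zero fun j _ => mul_eq_zero_of_left ?_ _
      rw [theta_mul]
      refine mul_eq_zero_of_right _ (Finset.sum_eq_zero fun v _ => ?_)
      rw [muExt, dif_neg, mul_zero]
      intro hv
      rw [Subgroup.mem_bot] at hv
      refine hw (Subtype.ext ?_)
      calc (w : L) = (v : L) * ((v : L)⁻¹ * w * v) * (v : L)⁻¹ := by group
        _ = 1 := by rw [hv]; group
    · simp
  have hsuppJ : ∀ x : L, g x ≠ 0 → x ∈ J ∧ x ≠ 1 := by
    intro x hx
    obtain ⟨⟨j, w⟩, rfl⟩ := h.prodEquiv.surjective x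
    refine ⟨?_, fun e => hx (by rw [e, hg1])⟩
    by_cases hw : w = 1
    · subst hw
      show (j : L) * ((1 : W) : L) ∈ J
      simp
    · exfalso
      apply hx
      show theta h ⊥ l 1 ((j : L) * w) - theta h ⊥ l' 1 ((j : L) * w) = 0
      have hz : ∀ k : J →* ℂˣ, theta h (⊥ : Subgroup L) k 1 ((j : L) * w) = 0 := fun k => by
        rw [theta_mul]
        refine mul_eq_zero_of_right _ (Finset.sum_eq_zero fun v _ => ?_)
        rw [muExt, dif_neg, mul_zero]
        intro hv
        rw [Subgroup.mem_bot] at hv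
        refine hw (Subtype.ext ?_)
        calc (w : L) = (v : L) * ((v : L)⁻¹ * w * v) * (v : L)⁻¹ := by group
          _ = 1 := by rw [hv]; group
      rw [hz, hz, sub_zero]
  have hval : ∀ η : IrrCharacter K,
      classInner (dadeIsometry A L Hs g) (η : K → ℂ) = (cnat η l : ℂ) - cnat η l' := by
    intro η
    have hA : ∀ x : L, (x : K) ∉ A → g x = 0 := fun x hx => by
      by_cases e : x = 1
      · rw [e, hg1]
      · exact hgs x e hx
    rw [Chars.Dade.classInner_dade hS.dade (Chars.Brauer.isClassFunction_of_gen hg) hA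
      (Chars.isClassFunction_coe η) (ψ := fun x : L => Chars.Dade.avg (η : K → ℂ) (Hs x) x)
      fun a _ => rfl, ← hsum l η, ← hsum l' η, ← Chars.classInner_sub_left, ← hgdef]
    simp only [classInner]
    congr 1
    refine Finset.sum_congr rfl fun x _ => ?_
    by_cases hx : g x = 0
    · rw [hx, zero_mul, zero_mul]
    · obtain ⟨hxJ, hx1⟩ := hsuppJ x hx
      rw [hS.bot ⟨x, hxJ⟩ hx1, Chars.Dade.avg, Subgroup.card_bot, Nat.cast_one, inv_one, one_mul,
        Finset.sum_eq_single (1 : K)]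
      · rw [mul_one]
      · intro u hu hu1
        exact absurd (Subgroup.mem_bot.mp (Finset.mem_filter.mp hu).2) hu1
      · simp
  have hPC : P = C := by
    have h1 := hval C
    rw [eg, Chars.classInner_sub_left, Chars.classInner_irr, Chars.classInner_irr,
      (mult_eq_one hS hC hCl).2] at h1
    have : cnat C l' = 0 := by
      by_contra e
      exact hCD (eq_of_cnat hS hC hD e hDl)
    rw [this] at h1
    by_contra e
    rw [if_neg e] at h1
    split_ifs at h1 <;> norm_num at h1
  have hQD : Q = D := by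
    have h1 := hval D
    rw [eg, Chars.classInner_sub_left, Chars.classInner_irr, Chars.classInner_irr,
      (mult_eq_one hS hD hDl).2] at h1
    have : cnat D l = 0 := by
      by_contra e
      exact hCD (eq_of_cnat hS hC hD hCl e)
    rw [this] at h1
    by_contra e
    rw [if_neg e] at h1
    split_ifs at h1 <;> norm_num at h1
  subst hPC hQD
  refine cnat_of_diff hS hPQ hC hD hll (fun m => ?_) m
  rw [(dade_coef hS hg hg1 hgs eg).2 m]
  show classInner ((fun j : J => theta h ⊥ l 1 j) - fun j : J => theta h ⊥ l' 1 j) _ = _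
  rw [Chars.classInner_sub_left, classInner_theta_orb hT, classInner_theta_orb hT']

/-- The degree of a constituent whose fibre is one orbit. -/
theorem degree_dvd {T : Subgroup L} {l : J →* ℂˣ} (hT : IsStab hS.split l T) {C : IrrCharacter K}
    (hC : ∀ m : J →* ℂˣ, cnat C m = if Orb hS.split l m then 1 else 0) :
    ∃ d : ℕ, (C : K → ℂ) 1 = d ∧ d ∣ Nat.card W := by
  have h := eq_of_coef_eq hS.split C (f := fun j : J => theta hS.split T l 1 j) (fun m => by
    rw [classInner_theta_orb hT, hC m, Nat.cast_ite, Nat.cast_one, Nat.cast_zero]) 1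
  obtain ⟨c, hc⟩ := Subgroup.card_dvd_of_le hT.le
  refine ⟨c, ?_, hc ▸ Dvd.intro_left _ rfl⟩
  simp only [OneMemClass.coe_one] at h
  have e := theta_of_mem (h := hS.split) (T := T) (l := l) 1 (1 : J)
  simp only [OneMemClass.coe_one, map_one, Units.val_one, Finset.sum_const, Finset.card_univ,
    nsmul_eq_mul, mul_one, ← Nat.card_eq_fintype_card, hc, Nat.cast_mul] at e
  rw [h, e, inv_mul_cancel_left₀ (Nat.cast_ne_zero.mpr Nat.card_pos.ne')]

/-- **All degrees but one divide `|W|`.** -/
theorem exists_exceptional : ∃ η₀ : IrrCharacter K, ∀ η : IrrCharacter K,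
    classInner π (η : K → ℂ) ≠ 0 →
      (∃ d : ℕ, (η : K → ℂ) 1 = d ∧ d ∣ Nat.card W) ∨
        (η = η₀ ∧ classInner π (η : K → ℂ) = 1) := by
  set h := hS.split
  obtain ⟨η₀, hη₀⟩ : ∃ η₀ : IrrCharacter K, ∀ l : J →* ℂˣ, l ≠ 1 →
      IsStab h l (⊥ : Subgroup L) → ∀ η : IrrCharacter K, mult hS η ≠ 0 → cnat η l ≠ 0 →
        η ≠ η₀ → ∀ m, cnat η m = if Orb h l m then 1 else 0 := by
    by_cases hex : ∃ l : J →* ℂˣ, l ≠ 1 ∧ IsStab h l (⊥ : Subgroup L)
    · obtain ⟨l₀, hl₀, hT₀⟩ := hex
      obtain ⟨η₀, hm₀, hc₀⟩ := exists_constituent hS l₀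
      refine ⟨η₀, fun l hl hT η hm hc hne => regular_pair hS hT hT₀ hl hl₀ ?_ hm hm₀ hc hc₀ hne⟩
      rintro ⟨v, hv, e⟩
      exact hne (eq_of_cnat hS hm hm₀ (by rw [← e, cnat_lconj]; exact hc) hc₀)
    · exact ⟨Chars.oneChar K, fun l hl hT => absurd ⟨l, hl, hT⟩ hex⟩
  refine ⟨η₀, fun η hη => ?_⟩
  have hm : mult hS η ≠ 0 := fun e => hη (by rw [classInner_mult hS, e, Nat.cast_zero])
  by_cases hex : ∃ l : J →* ℂˣ, l ≠ 1 ∧ cnat η l ≠ 0
  · obtain ⟨l, hl, hc⟩ := hex
    obtain ⟨T, hT⟩ := exists_isStab h l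
    by_cases hT1 : T = ⊥
    · subst hT1
      by_cases e : η = η₀
      · exact Or.inr ⟨e, by rw [classInner_mult hS, (mult_eq_one hS hm hc).1, Nat.cast_one]⟩
      · exact Or.inl (degree_dvd hS hT (hη₀ l hl hT η hm hc e))
    · obtain ⟨C, hC, hfib⟩ := exists_single hS hT hl hT1
      have : η = C := eq_of_cnat hS hm hC hc (by rw [hfib, if_pos (orb_refl h l)]; exact one_ne_zero)
      exact Or.inl (this ▸ degree_dvd hS hT hfib)
  · push Not at hex
    refine Or.inl ⟨1, ?_, one_dvd _⟩
    have hc1 : cnat η (1 : J →* ℂˣ) = 1 := by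
      obtain ⟨l, hl⟩ := exists_cnat_ne_zero h η
      by_cases e : l = 1
      · exact (mult_eq_one hS hm (e ▸ hl)).2
      · exact absurd (hex l e) hl
    have h1 := eq_of_coef_eq h η (f := fun _ : J => (1 : ℂ)) (fun m => by
      have := Chars.classInner_irr (Chars.linChar (1 : J →* ℂˣ)) (Chars.linChar m)
      simp only [Chars.linChar_injective.eq_iff] at this
      rw [show ((Chars.linChar (1 : J →* ℂˣ) : IrrCharacter J) : J → ℂ) = fun _ => (1 : ℂ) from
        funext fun j => by simp, show ((Chars.linChar m : IrrCharacter J) : J → ℂ) =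
          fun j => ((m j : ℂˣ) : ℂ) from funext fun j => Chars.linChar_apply m j] at this
      rw [this]
      split_ifs with e
      · rw [← e, hc1, Nat.cast_one]
      · rw [hex m (Ne.symm e), Nat.cast_zero]) 1
    simpa using h1

end CfsgLib.StrongEmb.RegularDade
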