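import Cfsg.Agent.Chars.Induced.Rep
import Cfsg.Agent.Chars.Basic.Orthogonality
import Cfsg.Agent.Chars.Basic.Linear
import Cfsg.Agent.Eq.Def_Characters

/-!
Induced linear characters of a split extension `E = J W` with `J` abelian normal: values, inner
products, the product with the permutation character on `J`, and the restriction to `J`.
-/

set_option autoImplicit false
set_option linter.style.haveILetI false

noncomputable section

universe u

namespace CfsgLib.StrongEmb.SplitTheta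

open Cfsg
open scoped ComplexConjugate Classical

variable {E : Type u} [Group E]

/-- `E` is the semidirect product of the abelian normal subgroup `J` and `W`. -/
structure IsSplit (J W : Subgroup E) : Prop where
  conj_mem : ∀ e : E, ∀ j ∈ J, e * j * e⁻¹ ∈ J
  comm : ∀ i ∈ J, ∀ j ∈ J, i * j = j * i
  inf : ∀ e : E, e ∈ J → e ∈ W → e = 1
  exists_mul : ∀ e : E, ∃ j ∈ J, ∃ w ∈ W, j * w = e

variable {J W : Subgroup E}

namespace IsSplit

variable (h : IsSplit J W)

include h

theorem mul_inj {i j : E} (hi : i ∈ J) (hj : j ∈ J) {v w : E} (hv : v ∈ W) (hw : w ∈ W)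
    (e : i * v = j * w) : i = j ∧ v = w := by
  have h1 : j⁻¹ * i = w * v⁻¹ := by
    rw [eq_mul_inv_iff_mul_eq, mul_assoc, e, inv_mul_cancel_left]
  have h2 : j⁻¹ * i = 1 :=
    h.inf _ (J.mul_mem (J.inv_mem hj) hi) (h1 ▸ W.mul_mem hw (W.inv_mem hv))
  rw [h2] at h1
  exact ⟨(inv_mul_eq_one.mp h2).symm, (mul_inv_eq_one.mp h1.symm).symm⟩

/-- The pairs `(j, w)` parametrise `E`. -/
def prodEquiv : J × W ≃ E :=
  Equiv.ofBijective (fun p => (p.1 : E) * p.2) ⟨fun p q e =>
      Prod.ext (Subtype.ext (h.mul_inj p.1.2 q.1.2 p.2.2 q.2.2 e).1)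
        (Subtype.ext (h.mul_inj p.1.2 q.1.2 p.2.2 q.2.2 e).2),
    fun e => by
      obtain ⟨j, hj, w, hw, he⟩ := h.exists_mul e
      exact ⟨(⟨j, hj⟩, ⟨w, hw⟩), he⟩⟩

theorem sum_eq [Fintype E] [Fintype J] [Fintype W] (F : E → ℂ) :
    ∑ e : E, F e = ∑ j : J, ∑ w : W, F ((j : E) * w) := by
  rw [← Fintype.sum_prod_type']
  exact (Fintype.sum_equiv h.prodEquiv _ _ fun p => rfl).symm

theorem card_eq [Finite E] : Nat.card E = Nat.card J * Nat.card W := by
  rw [← Nat.card_prod, Nat.card_congr h.prodEquiv]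

/-- The conjugate of a linear character of `J`. -/
def lconj (v : E) (l : J →* ℂˣ) : J →* ℂˣ where
  toFun j := l ⟨v⁻¹ * j * v, by simpa using h.conj_mem v⁻¹ j j.2⟩
  map_one' := by
    rw [← map_one l]
    congr 1
    ext
    simp
  map_mul' i j := by
    rw [← map_mul]
    congr 1
    ext
    simp [mul_assoc]

theorem lconj_apply (v : E) (l : J →* ℂˣ) (j : J) :
    h.lconj v l j = l ⟨v⁻¹ * j * v, by simpa using h.conj_mem v⁻¹ j j.2⟩ := rfl

theorem lconj_lconj (v w : E) (l : J →* ℂˣ) : h.lconj v (h.lconj w l) = h.lconj (v * w) l := by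
  ext j
  rw [lconj_apply, lconj_apply, lconj_apply]
  congr 2
  ext
  simp [mul_assoc]

theorem lconj_one (l : J →* ℂˣ) : h.lconj 1 l = l := by
  ext j
  rw [lconj_apply]
  congr 2
  ext
  simp

theorem lconj_inv_apply (v : E) (l : J →* ℂˣ) : h.lconj v l⁻¹ = (h.lconj v l)⁻¹ := rfl

theorem lconj_injective (v : E) {l l' : J →* ℂˣ} (e : h.lconj v l = h.lconj v l') : l = l' := by
  have := congrArg (h.lconj v⁻¹) e
  rwa [lconj_lconj, lconj_lconj, inv_mul_cancel, lconj_one, lconj_one] at this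

end IsSplit

/-- `T` is the stabiliser of `l` in `W`. -/
structure IsStab (h : IsSplit J W) (l : J →* ℂˣ) (T : Subgroup E) : Prop where
  le : T ≤ W
  mem_iff : ∀ w ∈ W, (w ∈ T ↔ h.lconj w l = l)

theorem exists_isStab (h : IsSplit J W) (l : J →* ℂˣ) : ∃ T, IsStab h l T := by
  refine ⟨{ carrier := {w | w ∈ W ∧ h.lconj w l = l}
            one_mem' := ⟨W.one_mem, h.lconj_one l⟩
            mul_mem' := fun {a b} ha hb => ⟨W.mul_mem ha.1 hb.1, by
              rw [← h.lconj_lconj, hb.2, ha.2]⟩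
            inv_mem' := fun {a} ha => ⟨W.inv_mem ha.1, h.lconj_injective a (by
              rw [h.lconj_lconj, mul_inv_cancel, h.lconj_one, ha.2])⟩ },
    fun w hw => hw.1, fun w hw => ⟨fun hT => hT.2, fun e => ⟨hw, e⟩⟩⟩

theorem IsStab.inv {h : IsSplit J W} {l : J →* ℂˣ} {T : Subgroup E} (hT : IsStab h l T) :
    IsStab h l⁻¹ T := by
  refine ⟨hT.le, fun w hw => ?_⟩
  rw [h.lconj_inv_apply, hT.mem_iff w hw]
  exact ⟨fun e => congrArg _ e,
    fun e => MonoidHom.ext fun j => inv_injective (DFunLike.congr_fun e j)⟩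

/-- Extension by zero of a linear character. -/
def muExt {T : Subgroup E} (μ : T →* ℂˣ) (x : E) : ℂ :=
  if hx : x ∈ T then ((μ ⟨x, hx⟩ : ℂˣ) : ℂ) else 0

theorem muExt_conj {T : Subgroup E} (μ : T →* ℂˣ) {u : E} (hu : u ∈ T) (x : E) :
    muExt μ (u⁻¹ * x * u) = muExt μ x := by
  by_cases hx : x ∈ T
  · have hx' : u⁻¹ * x * u ∈ T := T.mul_mem (T.mul_mem (T.inv_mem hu) hx) hu
    rw [muExt, muExt, dif_pos hx, dif_pos hx']
    congr 1
    rw [show (⟨u⁻¹ * x * u, hx'⟩ : T) = (⟨u, hu⟩ : T)⁻¹ * ⟨x, hx⟩ * ⟨u, hu⟩ from rfl, map_mul,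
      map_mul, map_inv, mul_right_comm, inv_mul_cancel, one_mul]
  · rw [muExt, muExt, dif_neg hx, dif_neg fun h' => hx (by
      have := T.mul_mem (T.mul_mem hu h') (T.inv_mem hu)
      simpa [mul_assoc] using this)]

variable [Fintype E]

/-- The induced linear character, by its formula. -/
def theta (h : IsSplit J W) (T : Subgroup E) (l : J →* ℂˣ) (μ : T →* ℂˣ) (e : E) : ℂ :=
  (Nat.card T : ℂ)⁻¹ * ∑ v : W, ((h.lconj v l (h.prodEquiv.symm e).1 : ℂˣ) : ℂ) *
    muExt μ ((v : E)⁻¹ * ((h.prodEquiv.symm e).2 : E) * v)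

variable {h : IsSplit J W} {T : Subgroup E} {l : J →* ℂˣ}

theorem theta_mul (μ : T →* ℂˣ) (j : J) (w : W) :
    theta h T l μ ((j : E) * w) = (Nat.card T : ℂ)⁻¹ * ∑ v : W,
      ((h.lconj v l j : ℂˣ) : ℂ) * muExt μ ((v : E)⁻¹ * (w : E) * v) := by
  have : h.prodEquiv.symm ((j : E) * w) = (j, w) :=
    h.prodEquiv.symm_apply_eq.mpr rfl
  rw [theta, this]

theorem isCharacter_theta (hT : IsStab h l T) (μ : T →* ℂˣ) :
    IsCharacter E (theta h T l μ) := by
  -- the subgroup `J T` and its linear character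
  let JT : Subgroup E :=
    { carrier := {e | ((h.prodEquiv.symm e).2 : E) ∈ T}
      one_mem' := by
        have : h.prodEquiv.symm 1 = (1, 1) := h.prodEquiv.symm_apply_eq.mpr (mul_one 1).symm
        show ((h.prodEquiv.symm 1).2 : E) ∈ T
        rw [this]; exact T.one_mem
      mul_mem' := by
        intro a b ha hb
        obtain ⟨⟨i, v⟩, rfl⟩ := h.prodEquiv.surjective a
        obtain ⟨⟨j, w⟩, rfl⟩ := h.prodEquiv.surjective b
        have : h.prodEquiv.symm (h.prodEquiv (i, v) * h.prodEquiv (j, w)) =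
            (i * ⟨(v : E) * j * (v : E)⁻¹, h.conj_mem v j j.2⟩, v * w) :=
          h.prodEquiv.symm_apply_eq.mpr (by
            show (i : E) * v * ((j : E) * w) = (i : E) * ((v : E) * j * (v : E)⁻¹) * ((v : E) * w)
            group)
        simp only [Set.mem_ofPred_eq, Equiv.symm_apply_apply] at ha hb ⊢
        rw [this]
        exact T.mul_mem ha hb
      inv_mem' := by
        intro a ha
        obtain ⟨⟨i, v⟩, rfl⟩ := h.prodEquiv.surjective a
        have : h.prodEquiv.symm (h.prodEquiv (i, v))⁻¹ =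
            (⟨(v : E)⁻¹ * (i : E)⁻¹ * v, by simpa using h.conj_mem (v : E)⁻¹ _ (J.inv_mem i.2)⟩,
              v⁻¹) :=
          h.prodEquiv.symm_apply_eq.mpr (by
            show ((i : E) * v)⁻¹ = (v : E)⁻¹ * (i : E)⁻¹ * v * (v : E)⁻¹
            group)
        simp only [Set.mem_ofPred_eq, Equiv.symm_apply_apply] at ha ⊢
        rw [this]
        exact T.inv_mem ha }
  let φ : JT →* ℂ :=
    { toFun := fun e => ((l (h.prodEquiv.symm (e : E)).1 : ℂˣ) : ℂ) *
        ((μ ⟨((h.prodEquiv.symm (e : E)).2 : E), e.2⟩ : ℂˣ) : ℂ)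
      map_one' := by
        have : h.prodEquiv.symm 1 = (1, 1) := h.prodEquiv.symm_apply_eq.mpr (mul_one 1).symm
        simp only [OneMemClass.coe_one, this, map_one, Units.val_one, one_mul]
        exact congrArg Units.val (map_one μ)
      map_mul' := by
        rintro ⟨a, ha⟩ ⟨b, hb⟩
        obtain ⟨⟨i, v⟩, rfl⟩ := h.prodEquiv.surjective a
        obtain ⟨⟨j, w⟩, rfl⟩ := h.prodEquiv.surjective b
        have hvT : (v : E) ∈ T := by
          have := ha; change ((h.prodEquiv.symm _).2 : E) ∈ T at this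
          rwa [Equiv.symm_apply_apply] at this
        have hwT : (w : E) ∈ T := by
          have := hb; change ((h.prodEquiv.symm _).2 : E) ∈ T at this
          rwa [Equiv.symm_apply_apply] at this
        have e : h.prodEquiv.symm (h.prodEquiv (i, v) * h.prodEquiv (j, w)) =
            (i * ⟨(v : E) * j * (v : E)⁻¹, h.conj_mem v j j.2⟩, v * w) :=
          h.prodEquiv.symm_apply_eq.mpr (by
            show (i : E) * v * ((j : E) * w) = (i : E) * ((v : E) * j * (v : E)⁻¹) * ((v : E) * w)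
            group)
        have hl : l ⟨(v : E) * j * (v : E)⁻¹, h.conj_mem v j j.2⟩ = l j := by
          have h1 := DFunLike.congr_fun ((hT.mem_iff v v.2).mp hvT)
            ⟨(v : E) * j * (v : E)⁻¹, h.conj_mem v j j.2⟩
          rw [IsSplit.lconj_apply] at h1
          rw [← h1]
          congr 1
          ext
          show (v : E)⁻¹ * ((v : E) * j * (v : E)⁻¹) * v = j
          group
        simp only [Subgroup.coe_mul, Equiv.symm_apply_apply, e, map_mul, hl, Units.val_mul]
        rw [show (⟨(v : E) * w, T.mul_mem hvT hwT⟩ : T) = ⟨v, hvT⟩ * ⟨w, hwT⟩ from rfl, map_mul,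
          Units.val_mul]
        ring }
  suffices heq : theta h T l μ = indFun JT (fun e => φ e) by
    rw [heq]; exact CfsgLib.Chars.Induced.isCharacter_indFun_hom JT φ
  have hext : ∀ (i : J) (v : W), extendByZero JT (fun e => φ e) ((i : E) * v) =
      ((l i : ℂˣ) : ℂ) * muExt μ (v : E) := by
    intro i v
    have e : h.prodEquiv.symm ((i : E) * v) = (i, v) := h.prodEquiv.symm_apply_eq.mpr rfl
    by_cases hv : (v : E) ∈ T
    · have hm : (i : E) * v ∈ JT := by
        show ((h.prodEquiv.symm ((i : E) * v)).2 : E) ∈ T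
        rw [e]; exact hv
      rw [CfsgLib.Chars.Induced.extendByZero_mem _ hm, muExt, dif_pos hv]
      show ((l (h.prodEquiv.symm _).1 : ℂˣ) : ℂ) * _ = _
      simp only [e]
    · rw [CfsgLib.Chars.Induced.extendByZero_notMem, muExt, dif_neg hv, mul_zero]
      intro hm
      change ((h.prodEquiv.symm ((i : E) * v)).2 : E) ∈ T at hm
      rw [e] at hm
      exact hv hm
  have hcard : Nat.card JT = Nat.card J * Nat.card T := by
    rw [← Nat.card_prod]
    symm
    refine Nat.card_congr (Equiv.ofBijective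
      (fun p : J × T => (⟨(p.1 : E) * (p.2 : E), ?_⟩ : JT)) ⟨fun p q e => ?_, fun e => ?_⟩)
    · show ((h.prodEquiv.symm _).2 : E) ∈ T
      rw [show h.prodEquiv.symm ((p.1 : E) * (p.2 : E)) = (p.1, ⟨p.2, hT.le p.2.2⟩) from
        h.prodEquiv.symm_apply_eq.mpr rfl]
      exact p.2.2
    · have := h.mul_inj p.1.2 q.1.2 (hT.le p.2.2) (hT.le q.2.2) (congrArg Subtype.val e)
      exact Prod.ext (Subtype.ext this.1) (Subtype.ext this.2)
    · exact ⟨((h.prodEquiv.symm (e : E)).1, ⟨((h.prodEquiv.symm (e : E)).2 : E), e.2⟩),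
        Subtype.ext (h.prodEquiv.apply_symm_apply e)⟩
  funext e
  obtain ⟨⟨j, w⟩, rfl⟩ := h.prodEquiv.surjective e
  show theta h T l μ ((j : E) * w) = indFun JT _ ((j : E) * w)
  rw [theta_mul, indFun, hcard, h.sum_eq, Nat.cast_mul, mul_inv, mul_comm (Nat.card J : ℂ)⁻¹,
    mul_assoc]
  congr 1
  simp only [Finset.mul_sum]
  rw [Finset.sum_comm]
  refine Finset.sum_congr rfl fun v _ => ?_
  rw [← Finset.mul_sum]
  by_cases hv : (v : E)⁻¹ * (w : E) * v ∈ T
  · have hfix : h.lconj ((v : E)⁻¹ * w * v) l = l :=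
      (hT.mem_iff _ (W.mul_mem (W.mul_mem (W.inv_mem v.2) w.2) v.2)).mp hv
    rw [Finset.sum_congr rfl (g := fun _ : J =>
      ((h.lconj v l j : ℂˣ) : ℂ) * muExt μ ((v : E)⁻¹ * (w : E) * v))]
    · rw [Finset.sum_const, Finset.card_univ, nsmul_eq_mul, ← Nat.card_eq_fintype_card,
        ← mul_assoc, inv_mul_cancel₀ (Nat.cast_ne_zero.mpr Nat.card_pos.ne'), one_mul]
    · intro i _
      set a : J := ⟨(v : E)⁻¹ * ((i : E)⁻¹ * j * ((w : E) * i * (w : E)⁻¹)) * v, by
        simpa using h.conj_mem (v : E)⁻¹ _ (J.mul_mem (J.mul_mem (J.inv_mem i.2) j.2)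
          (h.conj_mem w i i.2))⟩ with ha
      have harg : ((i : E) * v)⁻¹ * ((j : E) * w) * ((i : E) * v) =
          (a : E) * ((⟨(v : E)⁻¹ * w * v,
            W.mul_mem (W.mul_mem (W.inv_mem v.2) w.2) v.2⟩ : W) : E) := by
        simp only [ha]; group
      rw [harg, hext]
      congr 2
      have hsplit : a = ⟨(v : E)⁻¹ * (i : E)⁻¹ * v,
            by simpa using h.conj_mem (v : E)⁻¹ _ (J.inv_mem i.2)⟩ *
          (⟨(v : E)⁻¹ * j * v, by simpa using h.conj_mem (v : E)⁻¹ _ j.2⟩ *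
            ⟨(v : E)⁻¹ * ((w : E) * i * (w : E)⁻¹) * v,
              by simpa using h.conj_mem (v : E)⁻¹ _ (h.conj_mem w i i.2)⟩) := by
        apply Subtype.ext
        simp only [ha, Subgroup.coe_mul]
        group
      have hb := DFunLike.congr_fun hfix ⟨(v : E)⁻¹ * ((w : E) * i * (w : E)⁻¹) * v,
        by simpa using h.conj_mem (v : E)⁻¹ _ (h.conj_mem w i i.2)⟩
      rw [IsSplit.lconj_apply] at hb
      rw [hsplit, map_mul, map_mul, ← hb, IsSplit.lconj_apply, mul_left_comm, ← map_mul]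
      refine mul_eq_left.mpr ?_
      rw [← map_one l]
      congr 1
      apply Subtype.ext
      simp only [Subgroup.coe_mul, OneMemClass.coe_one]
      group
  · rw [muExt, dif_neg hv, mul_zero, Finset.sum_eq_zero, mul_zero]
    intro i _
    set a : J := ⟨(v : E)⁻¹ * ((i : E)⁻¹ * j * ((w : E) * i * (w : E)⁻¹)) * v, by
      simpa using h.conj_mem (v : E)⁻¹ _ (J.mul_mem (J.mul_mem (J.inv_mem i.2) j.2)
        (h.conj_mem w i i.2))⟩ with ha
    have harg : ((i : E) * v)⁻¹ * ((j : E) * w) * ((i : E) * v) =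
        (a : E) * ((⟨(v : E)⁻¹ * w * v,
          W.mul_mem (W.mul_mem (W.inv_mem v.2) w.2) v.2⟩ : W) : E) := by
      simp only [ha]; group
    rw [harg, hext, muExt, dif_neg hv, mul_zero]

/-- Orthogonality of linear characters of `J`. -/
theorem sum_lin_mul_conj [Fintype J] (a b : J →* ℂˣ) :
    ∑ j : J, ((a j : ℂˣ) : ℂ) * conj ((b j : ℂˣ) : ℂ) =
      if a = b then (Nat.card J : ℂ) else 0 := by
  have h1 := Chars.classInner_irr (Chars.linChar a) (Chars.linChar b)
  simp only [classInner, Chars.linChar_apply, Chars.linChar_injective.eq_iff] at h1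
  have hne : (Nat.card J : ℂ) ≠ 0 := Nat.cast_ne_zero.mpr Nat.card_pos.ne'
  rw [← mul_left_cancel_iff_of_pos' (inv_ne_zero hne), h1]
  split_ifs <;> simp
where
  mul_left_cancel_iff_of_pos' {c : ℂ} (hc : c ≠ 0) {x y : ℂ} : c * x = c * y ↔ x = y :=
    mul_right_inj' hc

theorem sum_muExt_mul_conj [Fintype W] (hTW : T ≤ W) (μ μ' : T →* ℂˣ) :
    ∑ w : W, muExt μ (w : E) * conj (muExt μ' (w : E)) =
      if μ = μ' then (Nat.card T : ℂ) else 0 := by
  rw [← sum_lin_mul_conj (E := E) μ μ', ← Finset.sum_filter_of_ne (p := fun w : W => (w : E) ∈ T)]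
  · refine Finset.sum_bij' (fun w hw => ⟨(w : E), (Finset.mem_filter.mp hw).2⟩)
      (fun t _ => ⟨(t : E), hTW t.2⟩) (fun _ _ => Finset.mem_univ _)
      (fun t _ => Finset.mem_filter.mpr ⟨Finset.mem_univ _, t.2⟩) (fun _ _ => rfl) (fun _ _ => rfl)
      fun w hw => ?_
    rw [muExt, muExt, dif_pos (Finset.mem_filter.mp hw).2, dif_pos (Finset.mem_filter.mp hw).2]
  · intro w _ hne
    by_contra hw
    exact hne (by rw [muExt, dif_neg hw, zero_mul])

theorem sum_reorder {ι κ ν : Type*} [Fintype ι] [Fintype κ] [Fintype ν] (c c' : ℂ)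
    (A B : ν → ι → ℂ) (M N : ν → κ → ℂ) :
    ∑ i, ∑ k, (c * ∑ v, A v i * M v k) * (c' * ∑ v, B v i * N v k) =
      c * (c' * ∑ v, ∑ v', (∑ i, A v i * B v' i) * ∑ k, M v k * N v' k) :=
  calc ∑ i, ∑ k, (c * ∑ v, A v i * M v k) * (c' * ∑ v, B v i * N v k)
      = ∑ i, ∑ k, c * c' * ∑ v, ∑ v', A v i * B v' i * (M v k * N v' k) := by
        refine Finset.sum_congr rfl fun i _ => Finset.sum_congr rfl fun k _ => ?_
        rw [mul_mul_mul_comm c, Fintype.sum_mul_sum]
        congr 1
        exact Finset.sum_congr rfl fun v _ => Finset.sum_congr rfl fun v' _ => by ring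
    _ = c * c' * ∑ i, ∑ k, ∑ v, ∑ v', A v i * B v' i * (M v k * N v' k) := by
        simp only [Finset.mul_sum]
    _ = c * c' * ∑ v, ∑ v', ∑ i, ∑ k, A v i * B v' i * (M v k * N v' k) := by
        congr 1
        rw [Finset.sum_congr rfl fun i _ => Finset.sum_comm, Finset.sum_comm]
        refine Finset.sum_congr rfl fun v _ => ?_
        rw [Finset.sum_congr rfl fun i _ => Finset.sum_comm, Finset.sum_comm]
    _ = _ := by
        rw [mul_assoc]
        simp only [Fintype.sum_mul_sum]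

/-- The inner product of two induced linear characters, as a double sum over `W`. -/
theorem classInner_theta_expand {T' : Subgroup E} {l' : J →* ℂˣ} (μ : T →* ℂˣ) (μ' : T' →* ℂˣ) :
    classInner (theta h T l μ) (theta h T' l' μ') =
      (Nat.card E : ℂ)⁻¹ * ((Nat.card T : ℂ)⁻¹ * ((Nat.card T' : ℂ)⁻¹ *
        ∑ v : W, ∑ v' : W, (if h.lconj v l = h.lconj v' l' then (Nat.card J : ℂ) else 0) *
          ∑ w : W, muExt μ ((v : E)⁻¹ * w * v) * conj (muExt μ' ((v' : E)⁻¹ * w * v')))) := by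
  rw [classInner, h.sum_eq]
  congr 1
  simp only [theta_mul, map_mul, map_inv₀, Complex.conj_natCast, map_sum]
  refine (sum_reorder _ _ _ _ _ _).trans ?_
  simp only [sum_lin_mul_conj]

/-- Same `l`: orthonormality in `μ`. -/
theorem classInner_theta_self (hT : IsStab h l T) (μ μ' : T →* ℂˣ) :
    classInner (theta h T l μ) (theta h T l μ') = if μ = μ' then 1 else 0 := by
  rw [classInner_theta_expand]
  have hkey : ∀ v v' : W, (if h.lconj v l = h.lconj v' l then (Nat.card J : ℂ) else 0) *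
      ∑ w : W, muExt μ ((v : E)⁻¹ * w * v) * conj (muExt μ' ((v' : E)⁻¹ * w * v')) =
      if ((v : E)⁻¹ * v' : E) ∈ T then
        (Nat.card J : ℂ) * (if μ = μ' then (Nat.card T : ℂ) else 0) else 0 := by
    intro v v'
    have hiff : h.lconj v l = h.lconj v' l ↔ ((v : E)⁻¹ * v' : E) ∈ T := by
      rw [hT.mem_iff _ (W.mul_mem (W.inv_mem v.2) v'.2)]
      constructor
      · intro e; rw [← h.lconj_lconj, ← e, h.lconj_lconj, inv_mul_cancel, h.lconj_one]
      · intro e; conv_lhs => rw [← e]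
        rw [h.lconj_lconj, mul_inv_cancel_left]
    by_cases hu : ((v : E)⁻¹ * v' : E) ∈ T
    · rw [if_pos (hiff.mpr hu), if_pos hu, ← sum_muExt_mul_conj hT.le μ μ']
      congr 1
      refine Fintype.sum_equiv (MulAut.conj v⁻¹).toEquiv _ _ fun w => ?_
      simp only [MulEquiv.toEquiv_eq_coe, EquivLike.coe_coe, MulAut.conj_apply, inv_inv,
        Subgroup.coe_mul, InvMemClass.coe_inv]
      rw [← muExt_conj μ' hu ((v : E)⁻¹ * w * v)]
      congr 3
      group
    · rw [if_neg (mt hiff.mp hu), if_neg hu, zero_mul]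
  simp only [hkey]
  have hcount : ∀ v : W, (∑ v' : W, if ((v : E)⁻¹ * v' : E) ∈ T then
      (Nat.card J : ℂ) * (if μ = μ' then (Nat.card T : ℂ) else 0) else 0) =
      (Nat.card T : ℂ) * ((Nat.card J : ℂ) * (if μ = μ' then (Nat.card T : ℂ) else 0)) := by
    intro v
    rw [← Finset.sum_filter, Finset.sum_const, nsmul_eq_mul]
    congr 1
    rw [← Fintype.card_subtype, Nat.card_eq_fintype_card]
    congr 1
    refine Fintype.card_congr
      { toFun := fun x => ⟨(v : E)⁻¹ * (x.1 : E), x.2⟩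
        invFun := fun t => ⟨⟨(v : E) * t, W.mul_mem v.2 (hT.le t.2)⟩, by simp⟩
        left_inv := fun x => Subtype.ext (Subtype.ext (by simp))
        right_inv := fun t => Subtype.ext (by simp) }
  simp only [hcount, Finset.sum_const, Finset.card_univ, nsmul_eq_mul,
    ← Nat.card_eq_fintype_card, h.card_eq, Nat.cast_mul]
  have hJ : (Nat.card J : ℂ) ≠ 0 := Nat.cast_ne_zero.mpr Nat.card_pos.ne'
  have hW : (Nat.card W : ℂ) ≠ 0 := Nat.cast_ne_zero.mpr Nat.card_pos.ne'
  have hT0 : (Nat.card T : ℂ) ≠ 0 := Nat.cast_ne_zero.mpr Nat.card_pos.ne'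
  split_ifs
  · field_simp
  · simp

/-- Different orbits: orthogonality. -/
theorem classInner_theta_of_ne {T' : Subgroup E} {l' : J →* ℂˣ}
    (hne : ∀ v ∈ W, h.lconj v l ≠ l') (μ : T →* ℂˣ) (μ' : T' →* ℂˣ) :
    classInner (theta h T l μ) (theta h T' l' μ') = 0 := by
  rw [classInner_theta_expand]
  rw [Finset.sum_eq_zero fun v _ => Finset.sum_eq_zero fun v' _ => ?_]
  · simp
  · rw [if_neg fun e => hne ((v' : E)⁻¹ * v) (W.mul_mem (W.inv_mem v'.2) v.2) ?_, zero_mul]
    rw [← h.lconj_lconj, e, h.lconj_lconj, inv_mul_cancel, h.lconj_one]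

/-- The product with the permutation character on `J`. -/
theorem classInner_theta_perm (hT : IsStab h l T) (μ : T →* ℂˣ) {π : E → ℂ}
    (hπ : ∀ (j : J) (w : W), π ((j : E) * w) =
      Nat.card {i : J // (j : E) * ((w : E) * i * (w : E)⁻¹) = i}) :
    classInner (theta h T l μ) π = if μ = 1 then 1 else 0 := by
  rw [classInner, h.sum_eq]
  have hkey : ∀ w : W, ∀ v : W, ∑ j : J, ((h.lconj v l j : ℂˣ) : ℂ) *
      muExt μ ((v : E)⁻¹ * w * v) * conj (π ((j : E) * w)) =
      (Nat.card J : ℂ) * muExt μ ((v : E)⁻¹ * w * v) := by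
    intro w v
    by_cases hv : (v : E)⁻¹ * (w : E) * v ∈ T
    · have hfix : h.lconj (w : E) (h.lconj v l) = h.lconj v l := by
        have := congrArg (h.lconj (v : E))
          ((hT.mem_iff _ (W.mul_mem (W.mul_mem (W.inv_mem v.2) w.2) v.2)).mp hv)
        rw [h.lconj_lconj] at this
        rw [h.lconj_lconj, ← this]
        congr 1
        group
      let q : J → J := fun i => i * ⟨(w : E) * (i : E)⁻¹ * (w : E)⁻¹, h.conj_mem w _ (J.inv_mem i.2)⟩
      have hq : ∀ i : J, h.lconj v l (q i) = 1 := by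
        intro i
        have h1 := DFunLike.congr_fun hfix
          ⟨(w : E) * (i : E)⁻¹ * (w : E)⁻¹, h.conj_mem w _ (J.inv_mem i.2)⟩
        rw [IsSplit.lconj_apply (v := (w : E))] at h1
        simp only [q]
        rw [map_mul, ← h1, ← map_mul, ← map_one (h.lconj v l)]
        congr 1
        apply Subtype.ext
        simp only [Subgroup.coe_mul, OneMemClass.coe_one]
        group
      have hfib : ∀ j : J, π ((j : E) * w) = ((Finset.univ.filter fun i => q i = j).card : ℂ) := by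
        intro j
        rw [hπ, Nat.card_eq_fintype_card, ← Fintype.card_subtype]
        congr 1
        refine Fintype.card_congr (Equiv.subtypeEquivRight fun i => ?_)
        simp only [q, Subtype.ext_iff, Subgroup.coe_mul]
        constructor <;> intro e
        · calc (i : E) * ((w : E) * (i : E)⁻¹ * (w : E)⁻¹)
              = (j : E) * ((w : E) * i * (w : E)⁻¹) * ((w : E) * (i : E)⁻¹ * (w : E)⁻¹) := by rw [e]
            _ = j := by group
        · rw [← e]; group
      simp only [hfib, Complex.conj_natCast]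
      rw [Finset.sum_congr rfl (g := fun j => ∑ i ∈ Finset.univ.filter (fun i => q i = j),
        ((h.lconj v l (q i) : ℂˣ) : ℂ) * muExt μ ((v : E)⁻¹ * w * v))]
      · rw [Finset.sum_fiberwise_of_maps_to (fun i _ => Finset.mem_univ _)]
        simp [hq, Nat.card_eq_fintype_card]
      · intro j _
        rw [Finset.sum_congr rfl (g := fun _ => ((h.lconj v l j : ℂˣ) : ℂ) *
          muExt μ ((v : E)⁻¹ * w * v)) fun i hi => by rw [(Finset.mem_filter.mp hi).2]]
        rw [Finset.sum_const, nsmul_eq_mul]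
        ring
    · simp [muExt, dif_neg hv]
  rw [Finset.sum_comm]
  rw [Finset.sum_congr rfl (g := fun w : W => (Nat.card J : ℂ) *
    ((Nat.card T : ℂ)⁻¹ * ∑ v : W, muExt μ ((v : E)⁻¹ * w * v)))]
  · have hswap : ∑ w : W, ∑ v : W, muExt μ ((v : E)⁻¹ * w * v) =
        (Nat.card W : ℂ) * (if μ = 1 then (Nat.card T : ℂ) else 0) := by
      rw [Finset.sum_comm, Finset.sum_congr rfl (g := fun _ => if μ = 1 then (Nat.card T : ℂ) else 0)]
      · simp [Nat.card_eq_fintype_card]
      · intro v _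
        have h1 := sum_muExt_mul_conj hT.le μ 1
        rw [← h1]
        refine Fintype.sum_equiv (MulAut.conj v⁻¹).toEquiv _ _ fun w => ?_
        simp only [MulEquiv.toEquiv_eq_coe, EquivLike.coe_coe, MulAut.conj_apply, inv_inv,
          Subgroup.coe_mul, InvMemClass.coe_inv]
        by_cases hw : (v : E)⁻¹ * w * v ∈ T
        · simp [muExt, dif_pos hw]
        · simp [muExt, dif_neg hw]
    rw [← Finset.mul_sum, ← Finset.mul_sum, hswap, h.card_eq, Nat.cast_mul]
    have hJ : (Nat.card J : ℂ) ≠ 0 := Nat.cast_ne_zero.mpr Nat.card_pos.ne'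
    have hW : (Nat.card W : ℂ) ≠ 0 := Nat.cast_ne_zero.mpr Nat.card_pos.ne'
    have hT0 : (Nat.card T : ℂ) ≠ 0 := Nat.cast_ne_zero.mpr Nat.card_pos.ne'
    split_ifs
    · field_simp
    · simp
  · intro w _
    calc ∑ j : J, theta h T l μ ((j : E) * w) * conj (π ((j : E) * w))
        = ∑ j : J, ∑ v : W, (Nat.card T : ℂ)⁻¹ * (((h.lconj v l j : ℂˣ) : ℂ) *
            muExt μ ((v : E)⁻¹ * w * v) * conj (π ((j : E) * w))) := by
          refine Finset.sum_congr rfl fun j _ => ?_
          rw [theta_mul, Finset.mul_sum, Finset.sum_mul]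
          exact Finset.sum_congr rfl fun v _ => by ring
      _ = ∑ v : W, (Nat.card T : ℂ)⁻¹ * ((Nat.card J : ℂ) * muExt μ ((v : E)⁻¹ * w * v)) := by
          rw [Finset.sum_comm]
          exact Finset.sum_congr rfl fun v _ => by rw [← Finset.mul_sum, hkey]
      _ = _ := by
          rw [← Finset.mul_sum, ← Finset.mul_sum, mul_left_comm]

/-- The restriction to `J`. -/
theorem theta_of_mem (μ : T →* ℂˣ) (j : J) :
    theta h T l μ (j : E) = (Nat.card T : ℂ)⁻¹ * ∑ v : W, ((h.lconj v l j : ℂˣ) : ℂ) := by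
  have e := theta_mul (h := h) (T := T) (l := l) μ j (1 : W)
  rw [OneMemClass.coe_one, mul_one] at e
  rw [e]
  congr 1
  refine Finset.sum_congr rfl fun v _ => ?_
  rw [mul_one, inv_mul_cancel, muExt, dif_pos T.one_mem]
  rw [show (⟨1, T.one_mem⟩ : T) = 1 from rfl, map_one, Units.val_one, mul_one]

/-- The multiplicity of a linear character of `J` in the restriction. -/
theorem classInner_theta_lin (hT : IsStab h l T) (μ : T →* ℂˣ) [Fintype J] (l' : J →* ℂˣ) :
    classInner (fun j : J => theta h T l μ (j : E)) (fun j : J => ((l' j : ℂˣ) : ℂ)) =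
      if ∃ v ∈ W, h.lconj v l = l' then 1 else 0 := by
  simp only [classInner, theta_of_mem, Finset.mul_sum, Finset.sum_mul]
  rw [Finset.sum_comm]
  simp only [mul_assoc, ← Finset.mul_sum, sum_lin_mul_conj]
  have hJ : (Nat.card J : ℂ) ≠ 0 := Nat.cast_ne_zero.mpr Nat.card_pos.ne'
  have hT0 : (Nat.card T : ℂ) ≠ 0 := Nat.cast_ne_zero.mpr Nat.card_pos.ne'
  split_ifs with hex
  · obtain ⟨v₀, hv₀, rfl⟩ := hex
    rw [← Finset.sum_filter, Finset.sum_const, nsmul_eq_mul]
    have hc : (Finset.univ.filter fun v : W => h.lconj v l = h.lconj v₀ l).card = Nat.card T := by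
      rw [← Fintype.card_subtype, Nat.card_eq_fintype_card]
      refine Fintype.card_congr
        { toFun := fun x => ⟨v₀⁻¹ * (x.1 : E), (hT.mem_iff _ (W.mul_mem (W.inv_mem hv₀) x.1.2)).mpr
            (by rw [← h.lconj_lconj, x.2, h.lconj_lconj, inv_mul_cancel, h.lconj_one])⟩
          invFun := fun t => ⟨⟨v₀ * t, W.mul_mem hv₀ (hT.le t.2)⟩, by
            rw [← h.lconj_lconj, (hT.mem_iff _ (hT.le t.2)).mp t.2]⟩
          left_inv := fun x => Subtype.ext (Subtype.ext (by simp))
          right_inv := fun t => Subtype.ext (by simp) }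
    rw [hc]
    field_simp
  · push Not at hex
    rw [Finset.sum_eq_zero fun v _ => if_neg (hex _ v.2)]
    simp

/-- A fixed nontrivial linear character gives a fixed nontrivial element. -/
theorem exists_commute_of_lconj_eq {w : E} (hl : l ≠ 1) (hw : h.lconj w l = l) :
    ∃ i ∈ J, i ≠ 1 ∧ w * i = i * w := by
  by_contra hno
  push Not at hno
  let q : J → J := fun i => ⟨w⁻¹ * i * w, by simpa using h.conj_mem w⁻¹ i i.2⟩ * i⁻¹
  have hinj : Function.Injective q := by
    intro a b e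
    by_contra hne
    refine hno ((b : E)⁻¹ * a) (J.mul_mem (J.inv_mem b.2) a.2)
      (fun e1 => hne (Subtype.ext (inv_mul_eq_one.mp e1).symm)) ?_
    have e' : w⁻¹ * (a : E) * w * (a : E)⁻¹ = w⁻¹ * (b : E) * w * (b : E)⁻¹ :=
      congrArg Subtype.val e
    have hwb : w⁻¹ * ((b : E)⁻¹ * a) * w ∈ J := by
      simpa using h.conj_mem w⁻¹ _ (J.mul_mem (J.inv_mem b.2) a.2)
    have key : w⁻¹ * ((b : E)⁻¹ * a) * w = (b : E)⁻¹ * a := by
      calc w⁻¹ * ((b : E)⁻¹ * a) * w
          = (w⁻¹ * b * w)⁻¹ * (w⁻¹ * (a : E) * w * (a : E)⁻¹) * a := by group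
        _ = (w⁻¹ * b * w)⁻¹ * (w⁻¹ * (b : E) * w * (b : E)⁻¹) * a := by rw [e']
        _ = (b : E)⁻¹ * a := by group
    calc w * ((b : E)⁻¹ * a) = w * (w⁻¹ * ((b : E)⁻¹ * a) * w) := by rw [key]
      _ = (b : E)⁻¹ * a * w := by group
  refine hl (MonoidHom.ext fun j => ?_)
  obtain ⟨i, rfl⟩ := (Finite.injective_iff_surjective.mp hinj) j
  have h1 := DFunLike.congr_fun hw i
  rw [IsSplit.lconj_apply] at h1
  simp only [q, map_mul, map_inv, h1, mul_inv_cancel, MonoidHom.one_apply]

end CfsgLib.StrongEmb.SplitTheta
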